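import Mathlib
import Cfsg.Agent.Lib.FgsC.Basic
import Cfsg.Agent.Lib.FgsC.CoprimeBase.Affine
import Cfsg.Agent.Lib.FgsC.BaseTwo.Sets

/-!
# Soluble groups have distinguishing colourings with five colours

Gluing along fibred actions uses five inequivalent colourings on the fibres; these come from one
colouring because a soluble subgroup of `Perm (Fin 5)` has index at least five.
-/

set_option autoImplicit false

universe u v w

namespace CfsgLib.BaseThree

open MulAction

/-- A colouring with five colours whose stabiliser acts trivially. -/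
def Col (G : Type u) [Group G] (Ω : Type v) [MulAction G Ω] : Prop :=
  ∃ c : Ω → Fin 5, ∀ g : G, (∀ x, c (g • x) = c x) → ∀ x : Ω, g • x = x

/-- A soluble subgroup of a finite insoluble group has five distinct cosets. -/
theorem five_cosets {G : Type u} [Group G] [Finite G] (hG : ¬ Group.IsSolvable G) (R : Subgroup G)
    (hR : Group.IsSolvable R) : ∃ f : Fin 5 → G, ∀ i j, (f i)⁻¹ * f j ∈ R → i = j := by
  haveI := Fintype.ofFinite (G ⧸ R)
  have h5 : 5 ≤ Fintype.card (G ⧸ R) := by
    by_contra hlt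
    let f := MulAction.toPermHom G (G ⧸ R)
    haveI : Group.IsSolvable (Equiv.Perm (G ⧸ R)) :=
      CfsgLib.FgsC.isSolvable_perm_of_card_le_four _ (by rw [Nat.card_eq_fintype_card]; omega)
    haveI := hR
    refine hG (Group.isSolvable_of_ker_le_range R.subtype f ?_)
    rw [← Subgroup.normalCore_eq_ker, Subgroup.range_subtype]
    exact Subgroup.normalCore_le R
  obtain ⟨e⟩ : Nonempty (Fin 5 ↪ G ⧸ R) :=
    Function.Embedding.nonempty_of_card_le (by rw [Fintype.card_fin]; exact h5)
  refine ⟨fun i => (e i).out, fun i j h => e.injective ?_⟩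
  rw [← QuotientGroup.out_eq' (e i), ← QuotientGroup.out_eq' (e j)]
  exact QuotientGroup.eq.2 h

/-- One colouring gives five pairwise inequivalent ones. -/
theorem five_of_col {G : Type u} [Group G] (hs : Group.IsSolvable G) {Ω : Type v} [Nonempty Ω]
    [MulAction G Ω] (h : Col G Ω) : ∃ C : Fin 5 → Ω → Fin 5, ∀ (k k' : Fin 5) (g : G),
      (∀ x, C k' (g • x) = C k x) → k = k' ∧ ∀ x : Ω, g • x = x := by
  classical
  obtain ⟨c, hc⟩ := h
  let R : Subgroup (G × Equiv.Perm (Fin 5)) :=
    { carrier := {q | ∀ x, c (q.1 • x) = q.2 (c x)}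
      one_mem' := fun x => by simp
      mul_mem' := fun {p q} hp hq x => by
        show c ((p.1 * q.1) • x) = p.2 (q.2 (c x))
        rw [mul_smul, hp, hq]
      inv_mem' := fun {p} hp x => by
        show c (p.1⁻¹ • x) = p.2⁻¹ (c x)
        have h1 := hp (p.1⁻¹ • x)
        rw [smul_inv_smul] at h1
        rw [h1, Equiv.Perm.inv_def, Equiv.symm_apply_apply] }
  obtain ⟨x₀⟩ := ‹Nonempty Ω›
  let T : Subgroup (Equiv.Perm (Fin 5)) := stabilizer (Equiv.Perm (Fin 5)) (c x₀)
  haveI : Group.IsSolvable T := by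
    let res : T →* Equiv.Perm {i : Fin 5 // i ≠ c x₀} :=
      { toFun := fun t => (t : Equiv.Perm (Fin 5)).subtypePerm fun i => by
          have ht : (t : Equiv.Perm (Fin 5)) (c x₀) = c x₀ := t.2
          exact not_congr ⟨fun h => (t : Equiv.Perm (Fin 5)).injective (h.trans ht.symm), fun h => by rw [h, ht]⟩
        map_one' := Equiv.ext fun i => rfl
        map_mul' := fun s t => Equiv.ext fun i => rfl }
    haveI := CfsgLib.FgsC.isSolvable_perm_of_card_le_four {i : Fin 5 // i ≠ c x₀} (by
      rw [Nat.card_eq_fintype_card]; simp)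
    refine Group.isSolvable_of_isSolvable_injective (f := res) fun s t he => Subtype.ext (Equiv.ext fun i => ?_)
    by_cases hi : i = c x₀
    · rw [hi]; exact (s.2 : (s : Equiv.Perm (Fin 5)) (c x₀) = c x₀).trans t.2.symm
    · exact congrArg Subtype.val (Equiv.congr_fun he ⟨i, hi⟩)
  haveI := hs
  haveI : Group.IsSolvable R := by
    let π₁ : R →* G := (MonoidHom.fst G (Equiv.Perm (Fin 5))).comp R.subtype
    let j : π₁.ker →* T :=
      { toFun := fun q => ⟨((q : R) : G × Equiv.Perm (Fin 5)).2, by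
          show ((q : R) : G × Equiv.Perm (Fin 5)).2 (c x₀) = c x₀
          rw [← (q : R).2 x₀, show ((q : R) : G × Equiv.Perm (Fin 5)).1 = 1 from q.2, one_smul]⟩
        map_one' := rfl
        map_mul' := fun _ _ => rfl }
    have hj : Function.Injective j := fun q q' he => Subtype.ext (Subtype.ext (Prod.ext
      ((show ((q : R) : G × Equiv.Perm (Fin 5)).1 = 1 from q.2).trans
        (show ((q' : R) : G × Equiv.Perm (Fin 5)).1 = 1 from q'.2).symm)
      (congrArg Subtype.val he)))
    haveI : Group.IsSolvable π₁.ker := Group.isSolvable_of_isSolvable_injective hj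
    exact Group.isSolvable_of_ker_le_range π₁.ker.subtype π₁ (Subgroup.range_subtype _).ge
  obtain ⟨f, hf⟩ := five_cosets Equiv.Perm.not_isSolvable_fin_5
    (R.map (MonoidHom.snd G (Equiv.Perm (Fin 5))))
    (Group.isSolvable_of_surjective ((MonoidHom.snd G (Equiv.Perm (Fin 5))).subgroupMap_surjective R))
  refine ⟨fun k x => f k (c x), fun k k' g hg => ?_⟩
  obtain rfl : k = k' := (hf k' k ⟨(g, (f k')⁻¹ * f k), fun x => by
    have h1 : f k' (c (g • x)) = f k (c x) := hg x
    show c (g • x) = (f k').symm (f k (c x))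
    rw [← h1, Equiv.symm_apply_apply], rfl⟩).symm
  exact ⟨rfl, hc g fun x => (f k).injective (hg x)⟩

/-- Gluing along an equivariant surjection. -/
theorem col_fibred {G : Type u} [Group G] {Ω : Type v} {Ω' : Type w} [MulAction G Ω] [MulAction G Ω']
    (π : Ω → Ω') (hπ : ∀ (g : G) x, π (g • x) = g • π x) (htop : Col G Ω')
    (hfib : ∀ i : Ω', ∃ F : Fin 5 → Ω → Fin 5, ∀ (k k' : Fin 5) (g : G), g • i = i →
      (∀ x, π x = i → F k' (g • x) = F k x) → k = k' ∧ ∀ x, π x = i → g • x = x) :
    Col G Ω := by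
  classical
  choose F hF using hfib
  obtain ⟨T, hT⟩ := htop
  let rep : Ω' → Ω' := fun i => (Quotient.mk (orbitRel G Ω') i).out
  have hrep : ∀ i, ∃ g : G, g • rep i = i := fun i =>
    MulAction.mem_orbit_iff.1 (orbitRel_apply.1 ((orbitRel G Ω').iseqv.symm
      (Quotient.exact (Quotient.out_eq (Quotient.mk (orbitRel G Ω') i)))))
  have hrepg : ∀ (g : G) i, rep (g • i) = rep i := fun g i =>
    congrArg Quotient.out (Quotient.sound (s := orbitRel G Ω') ⟨g, rfl⟩)
  choose t ht using hrep
  refine ⟨fun x => F (rep (π x)) (T (π x)) ((t (π x))⁻¹ • x), fun g hg x => ?_⟩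
  have key : ∀ i, T i = T (g • i) ∧
      ∀ y, π y = rep i → ((t (g • i))⁻¹ * g * t i) • y = y := by
    intro i
    refine hF (rep i) (T i) (T (g • i)) _ ?_ fun y hy => ?_
    · rw [mul_smul, mul_smul, ht, inv_smul_eq_iff]
      exact ((hrepg g i) ▸ ht (g • i) : t (g • i) • rep i = g • i).symm
    · have h1 := hg (t i • y)
      have e1 : π (t i • y) = i := by rw [hπ, hy, ht]
      have e2 : π (g • t i • y) = g • i := by rw [hπ, e1]
      simp only [e1, e2, hrepg, inv_smul_smul] at h1
      rw [mul_smul, mul_smul]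
      exact h1
  have hfix : g • π x = π x := hT g (fun i => (key i).1.symm) (π x)
  have h2 := (key (π x)).2 ((t (π x))⁻¹ • x) (by rw [hπ, inv_smul_eq_iff, ht])
  rw [hfix, mul_smul, mul_smul, smul_inv_smul] at h2
  exact (smul_left_cancel_iff _).1 h2

/-- A colouring of an elementary abelian group that no affine map but the identity keeps. -/
theorem exists_affine_col {H : Type u} [Group H] {M : Type u} [AddCommGroup M] [Finite M] [DistribMulAction H M]
    {r : ℕ} (hr : r.Prime) (hexp : ∀ x : M, r • x = 0) :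
    ∃ c : M → Fin 5, ∀ (h : H) (m : M), (∀ x, c (h • x + m) = c x) → ∀ x : M, h • x + m = x := by
  haveI : Fact r.Prime := ⟨hr⟩
  letI : Module (ZMod r) M := AddCommGroup.zmodModule hexp
  obtain ⟨b⟩ : Nonempty (Module.Basis (Fin (Module.finrank (ZMod r) M)) (ZMod r) M) := by
    haveI : Module.Finite (ZMod r) M := Module.Finite.of_finite
    haveI : Module.Free (ZMod r) M := Module.Free.of_divisionRing (ZMod r) M
    exact ⟨Module.finBasis (ZMod r) M⟩
  obtain ⟨c, hc5, hc⟩ := CfsgLib.CoprimeBase.five b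
  refine ⟨fun x => ⟨c x, hc5 x⟩, fun h m he x => ?_⟩
  obtain ⟨h1, h2⟩ := hc (DistribMulAction.toAddMonoidHom M h) (MulAction.injective h) m
    fun z => congrArg Fin.val (he z)
  rw [h1, add_zero]
  exact h2 x

/-- A maximal point stabiliser. -/
theorem col_maximal {G : Type u} [Group G] [Finite G] (hs : Group.IsSolvable G) {Ω : Type u} [Finite Ω] [MulAction G Ω] [FaithfulSMul G Ω] [IsPretransitive G Ω] (a : Ω)
    (hmax : IsCoatom (stabilizer G a)) : Col G Ω := by
  classical
  rcases subsingleton_or_nontrivial G with hsub | hnt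
  · exact ⟨fun _ => 0, fun g _ x => by rw [Subsingleton.elim g 1, one_smul]⟩
  obtain ⟨M, hMn, hMne, hMc, hMmin⟩ := CfsgLib.BaseTwo.exists_min_abelian hs
  set H := stabilizer G a with hH
  have hnot : ¬ M ≤ H := fun hle => hMne ((Subgroup.eq_bot_iff_forall M).2 fun m hm =>
    FaithfulSMul.eq_of_smul_eq_smul fun x : Ω => by
      obtain ⟨g, rfl⟩ := exists_smul_eq G a x
      have h1 := mem_stabilizer_iff.1 (hle (hMn.conj_mem m hm g⁻¹))
      rw [inv_inv, mul_smul, mul_smul, inv_smul_eq_iff] at h1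
      rw [one_smul, h1])
  have htop : H ⊔ M = ⊤ := hmax.2 _ (lt_of_le_of_ne le_sup_left fun h => hnot (h ▸ le_sup_right))
  have htr : ∀ x : Ω, ∃ m ∈ M, m • a = x := fun x => by
    obtain ⟨g, rfl⟩ := exists_smul_eq G a x
    have hg : g ∈ M ⊔ H := by rw [sup_comm, htop]; trivial
    obtain ⟨m, hm, h, hh, rfl⟩ := Subgroup.mem_sup_of_normal_left.1 hg
    exact ⟨m, hm, by rw [mul_smul, mem_stabilizer_iff.1 hh]⟩
  have hfree : ∀ m ∈ M, ∀ n ∈ M, m • a = n • a → m = n := fun m hm n hn he =>
    FaithfulSMul.eq_of_smul_eq_smul fun x : Ω => by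
      obtain ⟨k, hk, rfl⟩ := htr x
      rw [smul_smul, smul_smul, hMc m hm k hk, hMc n hn k hk, mul_smul, mul_smul, he]
  letI : CommGroup M := { M.toGroup with mul_comm := fun x y => Subtype.ext (hMc x x.2 y y.2) }
  letI : DistribMulAction H (Additive M) :=
    { smul := fun h m => Additive.ofMul ⟨(h : G) * (m.toMul : G) * (h : G)⁻¹, hMn.conj_mem _ m.toMul.2 h⟩
      one_smul := fun m => Additive.toMul.injective (Subtype.ext (by
        show (1 : G) * (m.toMul : G) * (1 : G)⁻¹ = _
        group))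
      mul_smul := fun x y m => Additive.toMul.injective (Subtype.ext (by
        show ((x : G) * y) * (m.toMul : G) * ((x : G) * y)⁻¹ = (x : G) * ((y : G) * (m.toMul : G) * (y : G)⁻¹) * (x : G)⁻¹
        group))
      smul_zero := fun x => Additive.toMul.injective (Subtype.ext (by
        show (x : G) * (1 : G) * (x : G)⁻¹ = 1
        group))
      smul_add := fun x m n => Additive.toMul.injective (Subtype.ext (by
        show (x : G) * ((m.toMul : G) * (n.toMul : G)) * (x : G)⁻¹ =
          ((x : G) * (m.toMul : G) * (x : G)⁻¹) * ((x : G) * (n.toMul : G) * (x : G)⁻¹)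
        group)) }
  have hirr : ∀ U : AddSubgroup (Additive M), (∀ (h : H) (v : Additive M), v ∈ U → h • v ∈ U) → U = ⊥ ∨ U = ⊤ := fun U hU => by
    let U' : Subgroup G := U.toSubgroup'.map M.subtype
    have hU'M : U' ≤ M := Subgroup.map_subtype_le _
    have hU'n : U'.Normal := by
      rw [← Subgroup.normalizer_eq_top_iff, eq_top_iff, ← htop]
      refine sup_le (fun h hh => ?_) (fun m hm => ?_)
      all_goals rw [Subgroup.mem_normalizer_iff]; intro x; constructor
      · rintro ⟨y, hy, rfl⟩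
        exact ⟨_, hU ⟨h, hh⟩ _ hy, rfl⟩
      · rintro ⟨y, hy, he⟩
        refine ⟨_, hU ⟨h, hh⟩⁻¹ _ hy, ?_⟩
        show h⁻¹ * (y : G) * h⁻¹⁻¹ = x
        rw [show (y : G) = h * x * h⁻¹ from he]
        group
      · intro hx
        rwa [hMc m hm x (hU'M hx), mul_inv_cancel_right]
      · intro hx
        have h2 := hMc m⁻¹ (M.inv_mem hm) (m * x * m⁻¹) (hU'M hx)
        have h1 : x = m * x * m⁻¹ := by
          calc x = m⁻¹ * (m * x * m⁻¹) * m := by group
            _ = m * x * m⁻¹ := by rw [h2, inv_mul_cancel_right]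
        rwa [h1]
    rcases hMmin U' hU'n hU'M with h | h
    · left
      rw [AddSubgroup.eq_bot_iff_forall]
      intro x hx
      have : (x.toMul : G) ∈ U' := ⟨x.toMul, hx, rfl⟩
      rw [h] at this
      exact Additive.toMul.injective (Subtype.ext this)
    · right
      rw [AddSubgroup.eq_top_iff']
      intro x
      obtain ⟨y, hy, he⟩ : (x.toMul : G) ∈ U' := h.symm ▸ x.toMul.2
      have : y = x.toMul := Subtype.ext he
      subst this
      exact hy
  have hfaith : FaithfulSMul H (Additive M) := ⟨fun {x y} he => Subtype.ext (FaithfulSMul.eq_of_smul_eq_smul fun z : Ω => by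
    obtain ⟨m, hm, rfl⟩ := htr z
    have hc : ∀ g : H, (g : G) • m • a = ((g : G) * m * (g : G)⁻¹) • a := fun g => by
      rw [mul_smul, mul_smul, inv_smul_eq_iff.2 g.2.symm]
    rw [hc, hc]
    exact congrArg (fun k : Additive M => (k.toMul : G) • a) (he (Additive.ofMul ⟨m, hm⟩)))⟩
  haveI := hfaith
  obtain ⟨r, hr, hrM⟩ := Nat.exists_prime_and_dvd (show Nat.card M ≠ 1 from fun h => hMne (Subgroup.card_eq_one.1 h))
  haveI : Fact r.Prime := ⟨hr⟩
  -- `M` has exponent `r`
  have hexp : ∀ x : Additive M, r • x = 0 := by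
    let U : AddSubgroup (Additive M) :=
      { carrier := {x | r • x = 0}
        zero_mem' := smul_zero _
        add_mem' := fun {x y} hx hy => by show r • (x + y) = 0; rw [smul_add, hx, hy, add_zero]
        neg_mem' := fun {x} hx => by show r • -x = 0; rw [smul_neg, hx, neg_zero] }
    rcases hirr U (fun h x hx => by show r • h • x = 0; rw [← smul_comm h r x, show r • x = 0 from hx, smul_zero]) with h | h
    · exfalso
      obtain ⟨x, hx⟩ := exists_prime_addOrderOf_dvd_card' (G := Additive M) r (by rwa [Nat.card_congr Additive.toMul])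
      have hxU : x ∈ U := by show r • x = 0; rw [← hx]; exact addOrderOf_nsmul_eq_zero x
      rw [h, AddSubgroup.mem_bot] at hxU
      rw [hxU, addOrderOf_zero] at hx
      exact hr.one_lt.ne hx
    · intro x
      exact (h.symm ▸ AddSubgroup.mem_top x : x ∈ U)
  obtain ⟨c, hc⟩ := exists_affine_col (H := H) (M := Additive M) hr hexp
  choose co hcoM hco using htr
  refine ⟨fun x => c (Additive.ofMul ⟨co x, hcoM x⟩), fun g hg => ?_⟩
  set t : M := ⟨co (g • a), hcoM _⟩ with ht
  have hh : (t : G)⁻¹ * g ∈ H := by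
    rw [hH, mem_stabilizer_iff, mul_smul, inv_smul_eq_iff]
    exact (hco (g • a)).symm
  have hmap : ∀ x : Ω, (Additive.ofMul (⟨co (g • x), hcoM _⟩ : M)) =
      (⟨_, hh⟩ : H) • Additive.ofMul (⟨co x, hcoM x⟩ : M) + Additive.ofMul t := fun x => by
    refine congrArg Additive.ofMul (Subtype.ext (hfree _ (hcoM _) _ (M.mul_mem (hMn.conj_mem _ (hcoM x) _) t.2) ?_))
    show co (g • x) • a = (((t : G)⁻¹ * g) * co x * ((t : G)⁻¹ * g)⁻¹ * (t : G)) • a
    rw [hco, hMc _ (hMn.conj_mem _ (hcoM x) _) _ t.2, mul_smul, mul_smul, mul_smul,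
      inv_smul_eq_iff.2 (mem_stabilizer_iff.1 hh).symm, hco x, smul_smul, mul_inv_cancel_left]
  have hbij : ∀ y : Additive M, ∃ x : Ω, Additive.ofMul (⟨co x, hcoM x⟩ : M) = y := fun y =>
    ⟨(y.toMul : G) • a, congrArg Additive.ofMul (Subtype.ext (hfree _ (hcoM _) _ y.toMul.2 (hco _)))⟩
  have hall := hc ⟨_, hh⟩ (Additive.ofMul t) fun y => by
    obtain ⟨x, rfl⟩ := hbij y
    rw [← hmap]
    exact hg x
  intro x
  have h2 := (hmap x).trans (hall _)
  have h3 : co (g • x) = co x := congrArg Subtype.val (congrArg Additive.toMul h2)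
  rw [← hco (g • x), h3, hco x]

/-- A distinguishing colouring with five colours exists. -/
theorem col_upTo (N : ℕ) : ∀ (G : Type u) [Group G] [Finite G], Group.IsSolvable G →
    ∀ (Ω : Type u) [Finite Ω] [MulAction G Ω], Nat.card Ω ≤ N → Col G Ω := by
  classical
  induction N using Nat.strong_induction_on with
  | _ N ih =>
  intro G _ _ hs Ω _ _ hΩ
  rcases isEmpty_or_nonempty Ω with hE | ⟨⟨a⟩⟩
  · exact ⟨fun _ => 0, fun g _ x => isEmptyElim x⟩
  have hrec : ∀ (H : Subgroup G) (Θ : Type u) [Finite Θ] [MulAction H Θ], Nat.card Θ < N → Col H Θ :=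
    fun H Θ _ _ hlt => ih _ hlt H inferInstance Θ le_rfl
  -- a fibred action
  have hfibred : ∀ (Ω' : Type u) [Finite Ω'] [MulAction G Ω'] (π : Ω → Ω'),
      (∀ (g : G) x, π (g • x) = g • π x) → Function.Surjective π → Nat.card Ω' < Nat.card Ω →
      (∀ i, Nat.card {x // π x = i} < Nat.card Ω) → Col G Ω := by
    intro Ω' _ _ π hπ hsurj hlt hlt'
    refine col_fibred π hπ (ih _ (hlt.trans_le hΩ) G hs Ω' le_rfl) fun i => ?_
    letI : MulAction (stabilizer G i) {x // π x = i} :=
      { smul := fun g x => ⟨(g : G) • x.1, by rw [hπ, x.2]; exact g.2⟩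
        one_smul := fun x => Subtype.ext (one_smul G x.1)
        mul_smul := fun g h x => Subtype.ext (mul_smul (g : G) (h : G) x.1) }
    obtain ⟨x₀, hx₀⟩ := hsurj i
    haveI : Nonempty {x // π x = i} := ⟨⟨x₀, hx₀⟩⟩
    haveI := hs
    obtain ⟨C, hC⟩ := five_of_col (G := stabilizer G i) inferInstance
      (hrec (stabilizer G i) {x // π x = i} ((hlt' i).trans_le hΩ))
    refine ⟨fun k x => if h : π x = i then C k ⟨x, h⟩ else 0, fun k k' g hgi hgF => ?_⟩
    obtain ⟨h1, h2⟩ := hC k k' ⟨g, hgi⟩ fun y => by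
      have h1 := hgF y.1 y.2
      simp only [] at h1
      rw [dif_pos (show π (g • y.1) = i by rw [hπ, y.2]; exact hgi), dif_pos y.2] at h1
      exact h1
    exact ⟨h1, fun x hx => congrArg Subtype.val (h2 ⟨x, hx⟩)⟩
  by_cases hfix : ∀ (g : G) (x : Ω), g • x = x
  · exact ⟨fun _ => 0, fun g _ x => hfix g x⟩
  push Not at hfix
  obtain ⟨g₁, a, hga⟩ := hfix
  by_cases htr : IsPretransitive G Ω
  swap
  · -- several orbits
    letI : MulAction G (ULift.{u} Bool) :=
      { smul := fun _ b => b, one_smul := fun _ => rfl, mul_smul := fun _ _ _ => rfl }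
    obtain ⟨b, hb⟩ : ∃ b : Ω, b ∉ orbit G a := by
      by_contra hall
      push Not at hall
      exact htr ⟨fun x y => by
        obtain ⟨g, rfl⟩ := hall x
        obtain ⟨k, rfl⟩ := hall y
        exact ⟨k * g⁻¹, by show (k * g⁻¹) • g • a = k • a; rw [smul_smul, inv_mul_cancel_right]⟩⟩
    have hiff : ∀ (g : G) x, g • x ∈ orbit G a ↔ x ∈ orbit G a := fun g x => by
      rw [← orbit_eq_iff, orbit_smul, orbit_eq_iff]
    refine hfibred (ULift.{u} Bool) (fun x => ⟨decide (x ∈ orbit G a)⟩)
      (fun g x => congrArg ULift.up (decide_eq_decide.2 (hiff g x))) (fun i => ?_) ?_ fun i => ?_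
    · obtain ⟨_ | _⟩ := i
      · exact ⟨b, by simp [hb]⟩
      · exact ⟨a, by simp⟩
    · haveI := Fintype.ofFinite Ω
      rw [Nat.card_eq_fintype_card, Nat.card_eq_fintype_card, Fintype.card_ulift, Fintype.card_bool]
      exact Fintype.two_lt_card_iff.2 ⟨a, g₁ • a, b, Ne.symm hga, fun h => hb (h ▸ mem_orbit_self a),
        fun h => hb (h ▸ mem_orbit a g₁)⟩
    · haveI := Fintype.ofFinite Ω
      rw [Nat.card_eq_fintype_card, Nat.card_eq_fintype_card]
      obtain ⟨_ | _⟩ := i
      · exact Fintype.card_subtype_lt (x := a) (by simp)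
      · exact Fintype.card_subtype_lt (x := b) (by simp [hb])
  by_cases hmax : IsCoatom (stabilizer G a)
  · -- a maximal stabiliser: pass to the permutation group
    let P := (MulAction.toPermHom G Ω).range
    letI : MulAction P Ω := MulAction.compHom Ω P.subtype
    haveI : FaithfulSMul P Ω := ⟨fun {x y} h => Subtype.ext (Equiv.ext h)⟩
    haveI : IsPretransitive P Ω := ⟨fun x y => by
      obtain ⟨g, hg⟩ := exists_smul_eq G x y
      exact ⟨⟨_, g, rfl⟩, hg⟩⟩
    let f : G →* P := (MulAction.toPermHom G Ω).rangeRestrict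
    have hf : Function.Surjective f := MonoidHom.rangeRestrict_surjective _
    have hst : (stabilizer P a).comap f = stabilizer G a := by
      ext g; rfl
    have hmax' : IsCoatom (stabilizer P a) := by
      refine ⟨fun h => hmax.1 (by rw [← hst, h, Subgroup.comap_top]), fun K hK => ?_⟩
      have h1 := hmax.2 (K.comap f) (hst ▸ (Subgroup.comap_lt_comap_of_surjective hf).2 hK)
      refine Subgroup.comap_injective hf ?_
      rw [h1, Subgroup.comap_top]
    haveI : Group.IsSolvable G := hs
    obtain ⟨c, hc⟩ := col_maximal (Group.isSolvable_of_surjective hf) a hmax'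
    exact ⟨c, fun g hg x => hc (f g) hg x⟩
  -- blocks
  have hne : stabilizer G a ≠ ⊤ := fun h => hga (h ▸ Subgroup.mem_top g₁ : g₁ ∈ stabilizer G a)
  obtain ⟨K, hK, hK'⟩ : ∃ K, stabilizer G a < K ∧ K ≠ ⊤ := by
    by_contra hall
    push Not at hall
    exact hmax ⟨hne, hall⟩
  choose co hco using fun x : Ω => exists_smul_eq G a x
  have hπ : ∀ (g : G) x, ((co (g • x) : G) : G ⧸ K) = g • ((co x : G) : G ⧸ K) := fun g x => by
    show _ = ((g * co x : G) : G ⧸ K)
    refine QuotientGroup.eq.2 (hK.le ?_)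
    rw [mem_stabilizer_iff, mul_smul, mul_smul, hco, inv_smul_eq_iff, hco]
  have hk : ∀ k : G, ((co (k • a) : G) : G ⧸ K) = (k : G ⧸ K) := fun k => QuotientGroup.eq.2 (hK.le (by
    rw [mem_stabilizer_iff, mul_smul, inv_smul_eq_iff, hco]))
  have hcardΩ : (stabilizer G a).index = Nat.card Ω := index_stabilizer_of_transitive G a
  refine hfibred (G ⧸ K) (fun x => (co x : G ⧸ K)) hπ (fun i => ?_) ?_ fun i => ?_
  · induction i using QuotientGroup.induction_on with
    | H k =>
      exact ⟨k • a, hk k⟩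
  · rw [← Subgroup.index_eq_card, ← hcardΩ]
    exact Subgroup.index_strictAnti hK
  · haveI := Fintype.ofFinite Ω
    rw [Nat.card_eq_fintype_card, Nat.card_eq_fintype_card]
    obtain ⟨j, hj⟩ : ∃ j : G ⧸ K, j ≠ i := by
      by_contra hall
      push Not at hall
      haveI : Subsingleton (G ⧸ K) := ⟨fun x y => (hall x).trans (hall y).symm⟩
      exact hK' (Subgroup.index_eq_one.1 (Nat.card_of_subsingleton i))
    induction j using QuotientGroup.induction_on with
    | H k =>
      exact Fintype.card_subtype_lt (x := k • a) (hk k ▸ hj)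

/-- A soluble group has a distinguishing colouring with five colours. -/
theorem exists_col {G : Type u} [Group G] [Finite G] (hs : Group.IsSolvable G) (Ω : Type u) [Finite Ω]
    [MulAction G Ω] : Col G Ω :=
  col_upTo _ G hs Ω le_rfl

end CfsgLib.BaseThree
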