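import Cfsg.Agent.Lib.FgsC.BaseThree.Linear

/-!
# A regular triple for a soluble group normalising a group of class two over the scalars

With `Z` the twist characters of the line stabiliser and `y_z` representatives, the triple is
`u`, `e + ∑ a_z y_z u`, `θ u + ∑ b_z y_z u`, where the points `(a_z : b_z)` form a distinguishing colouring.
-/

set_option autoImplicit false

universe v

namespace CfsgLib.BaseThree

open CfsgLib.CoprimeBase MulAction

variable {K : Type v} [Field K] {V : Type v} [AddCommGroup V] [Module K V]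

section Colour

/-- Five colours or, for three scalars, four colours on the non-trivial elements. -/
theorem exists_char_colour [Finite K] {W : Type v} [Finite W] (R : Subgroup (W → Kˣ)) {G : Type v} [Group G]
    [Finite G] (hG : Group.IsSolvable G) (cj : G → W → W) (hcj : ∀ g, Function.Surjective (cj g))
    [MulAction G {z : W → Kˣ // z ∈ R ∧ z ≠ 1}]
    (hact : ∀ (g : G) (z : {z : W → Kˣ // z ∈ R ∧ z ≠ 1}) w, (g • z).1 w = z.1 (cj g w))
    (hmem : ∀ (g : G) z, z ∈ R → (fun w => z (cj g w)) ∈ R) :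
    ∃ col : {z : W → Kˣ // z ∈ R ∧ z ≠ 1} → K × K, (∀ z, col z ≠ 0) ∧
      ∀ g : G, (∀ z : {z : W → Kˣ // z ∈ R ∧ z ≠ 1}, (col (g • z)).1 * (col z).2 = (col (g • z)).2 * (col z).1) →
        ∀ z : {z : W → Kˣ // z ∈ R ∧ z ≠ 1}, g • z = z := by
  classical
  haveI := Fintype.ofFinite K
  rcases Nat.lt_or_ge (Nat.card K) 4 with hq | hq
  swap
  · obtain ⟨pt, hpt0, hpt⟩ := exists_points (K := K) hq
    obtain ⟨c, hc⟩ := exists_col hG {z : W → Kˣ // z ∈ R ∧ z ≠ 1}
    exact ⟨fun z => pt (c z), fun z => hpt0 _, fun g hg => hc g fun z => hpt _ _ (hg z)⟩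
  have hcU : Nat.card Kˣ = Nat.card K - 1 := Nat.card_units K
  have h1K : 1 < Nat.card K := Finite.one_lt_card
  obtain hq2 | hq3 : Nat.card K = 2 ∨ Nat.card K = 3 := by omega
  · haveI : Subsingleton Kˣ := (Nat.card_eq_one_iff_unique.1 (by omega)).1
    exact ⟨fun _ => (1, 0), fun _ => by simp, fun g _ z => absurd (Subsingleton.elim z.1 1) z.2.2⟩
  have hsq : ∀ x : Kˣ, x ^ 2 = 1 := fun x => by
    rw [show (2 : ℕ) = Nat.card Kˣ by omega]
    exact pow_card_eq_one'
  haveI hmod : Module (ZMod 2) (Additive R) := AddCommGroup.zmodModule fun x =>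
    Additive.toMul.injective (Subtype.ext (funext fun w => hsq ((x.toMul : W → Kˣ) w)))
  haveI : Module.Finite (ZMod 2) (Additive R) := Module.Finite.of_finite
  haveI : Module.Free (ZMod 2) (Additive R) := Module.Free.of_divisionRing (ZMod 2) (Additive R)
  obtain ⟨c, hc⟩ := four (Module.finBasis (ZMod 2) (Additive R))
  obtain ⟨pt, hpt0, hpt⟩ := exists_points (K := K) (n := 3) hq3.ge
  refine ⟨fun z => pt (c (Additive.ofMul ⟨z.1, z.2.1⟩)), fun z => hpt0 _, fun g hg z => ?_⟩
  let f : Additive R →+ Additive R := MonoidHom.toAdditive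
    { toFun := fun x => ⟨fun w => (x : W → Kˣ) (cj g w), hmem g _ x.2⟩
      map_one' := rfl
      map_mul' := fun _ _ => rfl }
  have hf : Function.Injective f := fun x y h => Additive.toMul.injective (Subtype.ext (funext fun w => by
    obtain ⟨w', rfl⟩ := hcj g w
    exact congrFun (congrArg Subtype.val (congrArg Additive.toMul h)) w'))
  have hact' : ∀ z : {z : W → Kˣ // z ∈ R ∧ z ≠ 1},
      f (Additive.ofMul ⟨z.1, z.2.1⟩) = Additive.ofMul ⟨(g • z).1, (g • z).2.1⟩ := fun z =>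
    Additive.toMul.injective (Subtype.ext (funext fun w => (hact g z w).symm))
  have hid := hc f hf fun x hx => by
    let z : {z : W → Kˣ // z ∈ R ∧ z ≠ 1} :=
      ⟨x.toMul, x.toMul.2, fun h => hx (Additive.toMul.injective (Subtype.ext h))⟩
    rw [show x = Additive.ofMul ⟨z.1, z.2.1⟩ from rfl, hact' z]
    exact hpt _ _ (hg z)
  have h1 := congrArg (fun x : Additive R => (x.toMul : W → Kˣ)) ((hact' z).symm.trans (hid _))
  exact Subtype.ext h1

end Colour

variable [Finite K] [Finite V] [Nontrivial V] {N : Subgroup (V ≃ₗ[K] V)}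

/-- The triple. -/
theorem exists_triple (hN : Ext N) (H : Subgroup (V ≃ₗ[K] V)) (hH : Group.IsSolvable H)
    (hnorm : ∀ h ∈ H, ∀ x ∈ N, h * x * h⁻¹ ∈ N) :
    ∃ v : Fin 3 → V, v 0 ≠ 0 ∧
      (∀ (g : V →+ V) (σ : K →+* K), Function.Injective g → (∀ (a : K) (x : V), g (a • x) = σ a • g x) →
        (∀ x ∈ N, ∃ x' ∈ N, ∀ y, g (x y) = x' (g y)) → (∀ i, g (v i) = v i) → ∀ a, σ a = a) ∧
      ∀ h ∈ H, (∀ i, h (v i) = v i) → ∀ x ∈ N, h * x = x * h := by
  classical
  haveI hfin : Finite (V ≃ₗ[K] V) := Finite.of_injective (fun f => (f : V → V)) DFunLike.coe_injective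
  haveI : Finite Kˣ := Finite.of_injective _ Units.val_injective
  obtain ⟨u, e, hu, he, hP⟩ := exists_base hN
  -- the twist characters of the line stabiliser
  have hex : ∀ (y : N) (w : Wf N u), ∃ a : Kˣ, Twist (w : V ≃ₗ[K] V) (y : V ≃ₗ[K] V) (a : K) := fun y w => by
    obtain ⟨a, ha0, ha⟩ := hN.exists_twist w.2.1 y.2
    exact ⟨Units.mk0 a ha0, ha⟩
  choose ζ hζ using hex
  let Z : N →* (Wf N u → Kˣ) :=
    { toFun := ζ
      map_one' := funext fun w => Units.ext ((hζ 1 w).unique (twist_one_iff.2 (by simp)))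
      map_mul' := fun x y => funext fun w => Units.ext ((hζ (x * y) w).unique ((hζ x w).mul_right (hζ y w))) }
  have hZ : ∀ (y : N) (w : Wf N u), Twist (w : V ≃ₗ[K] V) (y : V ≃ₗ[K] V) ((Z y w : Kˣ) : K) := hζ
  have hker : ∀ y : N, Z y = 1 ↔ (y : V ≃ₗ[K] V) ∈ Mf N u := fun y => by
    constructor
    · refine fun h => mem_Mf.2 ⟨y.2, fun w hw => twist_one_iff.1 ?_⟩
      have h1 := hZ y ⟨w, hw⟩
      rwa [congrFun h, Pi.one_apply, Units.val_one] at h1
    · intro h
      funext w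
      exact Units.ext ((hZ y w).unique (twist_one_iff.2 ((mem_Mf.1 h).2 w w.2)))
  -- weights
  have hχ : ∀ w : Wf N u, ∃ a : Kˣ, (w : V ≃ₗ[K] V) u = (a : K) • u := fun w => w.2.2
  choose χ hχ using hχ
  let op : Wf N u → (V →ₗ[K] V) := fun w => (w : V ≃ₗ[K] V).toLinearMap
  let wt : (Wf N u → Kˣ) → Wf N u → K := fun z w => (z w : K) * χ w
  have hwt : ∀ (y : N) (w : Wf N u), op w ((y : V ≃ₗ[K] V) u) = wt (Z y) w • (y : V ≃ₗ[K] V) u := fun y w => by
    show (w : V ≃ₗ[K] V) ((y : V ≃ₗ[K] V) u) = _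
    rw [hZ y w, hχ, map_smul, smul_smul]
  have hwu : ∀ w : Wf N u, op w u = (χ w : K) • u := hχ
  have hwt_inj : Function.Injective wt := fun z z' h => funext fun w =>
    Units.ext (mul_right_cancel₀ (χ w).ne_zero (congrFun h w))
  have hwt_ne : ∀ z, z ≠ 1 → wt z ≠ fun w => (χ w : K) := fun z hz h =>
    hz (hwt_inj (h.trans (funext fun w => by simp [wt])))
  -- the representatives
  let T := {z : Wf N u → Kˣ // z ∈ Z.range ∧ z ≠ 1}
  haveI : Finite T := Subtype.finite
  haveI : Fintype T := Fintype.ofFinite T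
  have hrep : ∀ z : T, ∃ y : N, Z y = z.1 := fun z => z.2.1
  choose yz hyz using hrep
  let f : T → V := fun z => (yz z : V ≃ₗ[K] V) u
  have hf0 : ∀ z, f z ≠ 0 := fun z h => hu ((yz z : V ≃ₗ[K] V).map_eq_zero_iff.1 h)
  have hfw : ∀ z w, op w (f z) = wt z.1 w • f z := fun z w => by rw [← hyz z]; exact hwt (yz z) w
  -- the stabiliser of `u` acts on the characters
  let Hu : Subgroup (V ≃ₗ[K] V) :=
    { carrier := {h | h ∈ H ∧ h u = u}
      one_mem' := ⟨H.one_mem, rfl⟩
      mul_mem' := fun {a b} ha hb => ⟨H.mul_mem ha.1 hb.1, by rw [LinearEquiv.mul_apply, hb.2, ha.2]⟩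
      inv_mem' := fun {a} ha => ⟨H.inv_mem ha.1, a.injective (by rw [apply_inv, ha.2])⟩ }
  have hconj : ∀ (h : Hu) (x : N), (h : V ≃ₗ[K] V) * x * (h : V ≃ₗ[K] V)⁻¹ ∈ N := fun h x => hnorm _ h.2.1 _ x.2
  let cj : Hu → Wf N u → Wf N u := fun h w =>
    ⟨(h : V ≃ₗ[K] V)⁻¹ * w * h, by
      have := hnorm _ (H.inv_mem h.2.1) _ w.2.1
      rwa [inv_inv] at this, χ w, by
      rw [LinearEquiv.mul_apply, LinearEquiv.mul_apply, h.2.2, hχ, map_smul, (Hu.inv_mem h.2).2]⟩
  have hcjinv : ∀ h w, cj h (cj h⁻¹ w) = w := fun h w => Subtype.ext (by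
    show (h : V ≃ₗ[K] V)⁻¹ * (((h⁻¹ : Hu) : V ≃ₗ[K] V)⁻¹ * w * ((h⁻¹ : Hu) : V ≃ₗ[K] V)) * h = w
    rw [Subgroup.coe_inv]; group)
  have hZc : ∀ (h : Hu) (y : N) (w : Wf N u), Z ⟨_, hconj h y⟩ w = Z y (cj h w) := fun h y w => by
    refine Units.ext ((hZ ⟨_, hconj h y⟩ w).unique fun v => ?_)
    have h1 := hZ y (cj h w) ((h : V ≃ₗ[K] V)⁻¹ v)
    simp only [cj, LinearEquiv.mul_apply, apply_inv] at h1
    simp only [LinearEquiv.mul_apply]
    have h2 := congrArg (h : V ≃ₗ[K] V) h1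
    rw [apply_inv, map_smul] at h2
    exact h2
  have hmem : ∀ (h : Hu) z, z ∈ Z.range → (fun w => z (cj h w)) ∈ Z.range := by
    rintro h _ ⟨y, rfl⟩
    exact ⟨⟨_, hconj h y⟩, funext (hZc h y)⟩
  letI : MulAction Hu T :=
    { smul := fun h z => ⟨fun w => z.1 (cj h w), hmem h _ z.2.1, fun e => z.2.2 (funext fun w => by
        have h1 := congrFun e (cj h⁻¹ w)
        rwa [hcjinv] at h1)⟩
      one_smul := fun z => Subtype.ext (funext fun w => congrArg z.1 (Subtype.ext (by
        show ((1 : Hu) : V ≃ₗ[K] V)⁻¹ * w * ((1 : Hu) : V ≃ₗ[K] V) = w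
        simp)))
      mul_smul := fun a b z => Subtype.ext (funext fun w => congrArg z.1 (Subtype.ext (by
        show ((a * b : Hu) : V ≃ₗ[K] V)⁻¹ * w * ((a * b : Hu) : V ≃ₗ[K] V) =
          (b : V ≃ₗ[K] V)⁻¹ * ((a : V ≃ₗ[K] V)⁻¹ * w * a) * b
        rw [Subgroup.coe_mul]; group))) }
  have hHu : Group.IsSolvable Hu := by
    haveI := hH
    exact Group.isSolvable_of_isSolvable_injective (f := Subgroup.inclusion (show Hu ≤ H from fun h hh => hh.1))
      (Subgroup.inclusion_injective _)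
  obtain ⟨col, hcol0, hcol⟩ := exists_char_colour (K := K) Z.range (G := Hu) hHu cj
    (fun h w => ⟨cj h⁻¹ w, hcjinv h w⟩) (fun _ _ _ => rfl) hmem
  obtain ⟨θ, hθ⟩ := IsCyclic.exists_generator (α := Kˣ)
  refine ⟨![u, e + ∑ z, (col z).1 • f z, (θ : K) • u + ∑ z, (col z).2 • f z], hu, ?_, ?_⟩
  · -- the field part
    intro g σ hg hlin hnm hfix
    have hgu : g u = u := hfix 0
    have hv2 : g ((θ : K) • u + ∑ z, (col z).2 • f z) = (θ : K) • u + ∑ z, (col z).2 • f z := hfix 2
    choose c hcN hc using hnm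
    let c' : N → N := fun x => ⟨c x x.2, hcN x x.2⟩
    have hgs : Function.Surjective g := Finite.surjective_of_injective hg
    have hcW : ∀ w : Wf N u, (c' ⟨w, w.2.1⟩ : V ≃ₗ[K] V) ∈ Wf N u := fun w => by
      refine mem_Wf_of_eigen hu (hcN _ w.2.1) (a := σ (χ w)) ?_
      have h1 := (hc w w.2.1 u).symm.trans ((congrArg g (hχ w)).trans (hlin (χ w : K) u))
      show c w w.2.1 u = _
      rwa [hgu] at h1
    have hc'1 : ∀ y : N, Z (c' y) = 1 → Z y = 1 := fun y h => (hker y).2 (mem_Mf.2 ⟨y.2, fun w hw => by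
      have h1 := (mem_Mf.1 ((hker _).1 h)).2 _ (hcW ⟨w, hw⟩)
      refine LinearEquiv.ext fun v => hg ?_
      rw [LinearEquiv.mul_apply, LinearEquiv.mul_apply, hc w hw.1, hc y y.2, hc y y.2, hc w hw.1]
      exact LinearEquiv.congr_fun h1 (g v)⟩)
    have hgf : ∀ z, g (f z) = (c' (yz z) : V ≃ₗ[K] V) u := fun z => by
      show g ((yz z : V ≃ₗ[K] V) u) = c (yz z) (yz z).2 u
      rw [hc _ (yz z).2, hgu]
    have h0 : (σ θ - (θ : K)) • u = 0 := by
      refine eq_zero_of_weights op (fun w => (χ w : K)) (Sum.elim (fun z : T => wt z.1) fun z => wt (Z (c' (yz z))))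
        Finset.univ (Sum.elim (fun z => (col z).2 • f z) fun z => -(σ (col z).2 • (c' (yz z) : V ≃ₗ[K] V) u)) _
        (fun w => ?_) (fun i _ w => ?_) (fun i _ => ?_) ?_
      · rw [map_smul, hwu, smul_comm]
      · rcases i with z | z
        · simp only [Sum.elim_inl]
          rw [map_smul, hfw, smul_comm]
        · simp only [Sum.elim_inr]
          rw [map_neg, map_smul, hwt, smul_neg, smul_comm]
      · rcases i with z | z
        · exact hwt_ne _ z.2.2
        · exact hwt_ne _ fun h => z.2.2 (by rw [← hyz z]; exact hc'1 _ h)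
      · rw [Fintype.sum_sum_type]
        simp only [Sum.elim_inl, Sum.elim_inr, Finset.sum_neg_distrib]
        rw [map_add, map_sum, hlin, hgu, Finset.sum_congr rfl fun z _ => show g ((col z).2 • f z) =
          σ (col z).2 • (c' (yz z) : V ≃ₗ[K] V) u by rw [hlin, hgf]] at hv2
        rw [sub_smul, ← sub_eq_add_neg, sub_eq_sub_iff_add_eq_add, hv2, add_comm]
    have hθ' : σ θ = θ := sub_eq_zero.1 ((smul_eq_zero.1 h0).resolve_right hu)
    intro a
    rcases eq_or_ne a 0 with rfl | ha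
    · exact map_zero σ
    obtain ⟨k, hk⟩ : ∃ k : ℕ, θ ^ k = Units.mk0 a ha :=
      (IsOfFinOrder.mem_powers_iff_mem_zpowers (isOfFinOrder_of_finite θ)).2 (hθ _)
    have hk' : (θ : K) ^ k = a := by rw [← Units.val_pow_eq_pow_val, hk]; rfl
    rw [← hk', map_pow, hθ']
  · -- the linear part
    intro h hh hfix
    have hgu : h u = u := hfix 0
    have hv1 : h (e + ∑ z, (col z).1 • f z) = e + ∑ z, (col z).1 • f z := hfix 1
    have hv2 : h ((θ : K) • u + ∑ z, (col z).2 • f z) = (θ : K) • u + ∑ z, (col z).2 • f z := hfix 2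
    let g : Hu := ⟨h, hh, hgu⟩
    have hinv : h⁻¹ u = u := h.injective (by rw [apply_inv, hgu])
    have hmove : ∀ y : N, h ((y : V ≃ₗ[K] V) u) = (h * y * h⁻¹) u := fun y => by
      simp only [LinearEquiv.mul_apply, hinv]
    have hfw' : ∀ z w, op w (h (f z)) = wt (g • z).1 w • h (f z) := fun z w => by
      show op w (h ((yz z : V ≃ₗ[K] V) u)) = _ • h ((yz z : V ≃ₗ[K] V) u)
      rw [hmove]
      have h1 := hwt ⟨_, hconj g (yz z)⟩ w
      have h2 : Z ⟨_, hconj g (yz z)⟩ = (g • z).1 := funext fun w' =>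
        (hZc g (yz z) w').trans (congrFun (hyz z) _)
      rwa [h2] at h1
    have hev : ∀ w, op w e = (χ w : K) • e ∧ op w (h e) = (χ w : K) • h e := fun w => by
      rcases he with rfl | ⟨m, hm, rfl⟩
      · simp
      have hm1 : Z ⟨m, (mem_Mf.1 hm).1⟩ = 1 := (hker _).2 hm
      refine ⟨?_, ?_⟩
      · have h1 := hwt ⟨m, (mem_Mf.1 hm).1⟩ w
        simpa [wt, hm1] using h1
      · show op w (h (((⟨m, (mem_Mf.1 hm).1⟩ : N) : V ≃ₗ[K] V) u)) = _ • h (((⟨m, (mem_Mf.1 hm).1⟩ : N) : V ≃ₗ[K] V) u)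
        rw [hmove]
        have h1 := hwt ⟨_, hconj g ⟨m, (mem_Mf.1 hm).1⟩⟩ w
        have h2 : Z ⟨_, hconj g ⟨m, (mem_Mf.1 hm).1⟩⟩ = 1 := funext fun w' =>
          (hZc g _ w').trans (congrFun hm1 _)
        simpa [wt, h2] using h1
    have hhe : h e = e := by
      refine sub_eq_zero.1 (eq_zero_of_weights op (fun w => (χ w : K))
        (Sum.elim (fun z : T => wt z.1) fun z => wt (g • z).1) Finset.univ
        (Sum.elim (fun z => (col z).1 • f z) fun z => -((col z).1 • h (f z))) _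
        (fun w => ?_) (fun i _ w => ?_) (fun i _ => ?_) ?_)
      · rw [map_sub, (hev w).1, (hev w).2, smul_sub]
      · rcases i with z | z
        · simp only [Sum.elim_inl]
          rw [map_smul, hfw, smul_comm]
        · simp only [Sum.elim_inr]
          rw [map_neg, map_smul, hfw', smul_neg, smul_comm]
      · rcases i with z | z
        · exact hwt_ne _ z.2.2
        · exact hwt_ne _ (g • z).2.2
      · rw [Fintype.sum_sum_type]
        simp only [Sum.elim_inl, Sum.elim_inr, Finset.sum_neg_distrib]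
        rw [map_add, map_sum, Finset.sum_congr rfl fun z _ => map_smul h (col z).1 (f z)] at hv1
        rw [← sub_eq_add_neg, sub_eq_sub_iff_add_eq_add, hv1, add_comm]
    have hcoef : ∀ a : T → K, h (∑ z, a z • f z) = ∑ z, a z • f z →
        ∀ z, a (g • z) • f (g • z) = a z • h (f z) := by
      intro a ha z
      rw [← sub_eq_zero]
      refine eq_zero_of_sum op (fun z : T => wt (g • z).1)
        (fun x y hxy => MulAction.injective g (Subtype.ext (hwt_inj hxy)))
        (fun z => a (g • z) • f (g • z) - a z • h (f z)) (fun i w => ?_) ?_ z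
      · rw [map_sub, map_smul, map_smul, hfw, hfw', smul_sub, smul_comm (wt _ w), smul_comm (wt _ w)]
      · rw [Finset.sum_sub_distrib, sub_eq_zero]
        refine (Equiv.sum_comp (MulAction.toPerm g) fun z => a z • f z).trans ?_
        rw [← ha, map_sum]
        exact Finset.sum_congr rfl fun z _ => map_smul h _ _
    have hca := hcoef (fun z => (col z).1) (by rw [map_add, hhe] at hv1; exact add_left_cancel hv1)
    have hcb := hcoef (fun z => (col z).2) (by rw [map_add, map_smul, hgu] at hv2; exact add_left_cancel hv2)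
    have hperm : ∀ z, g • z = z := hcol g fun z => by
      refine smul_left_injective K (hf0 (g • z)) ?_
      show ((col (g • z)).1 * (col z).2) • f (g • z) = ((col (g • z)).2 * (col z).1) • f (g • z)
      rw [mul_comm, mul_smul, hca, mul_comm, mul_smul, hcb, smul_comm]
    have hrep' : ∀ z, h (f z) = f z := fun z => by
      have h1 := hca z
      have h2 := hcb z
      rw [hperm] at h1 h2
      by_cases hz : (col z).1 = 0
      · have hz2 : (col z).2 ≠ 0 := fun h' => hcol0 z (Prod.ext hz h')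
        exact (smul_right_injective V hz2 h2).symm
      · exact (smul_right_injective V hz h1).symm
    have hall : ∀ y : N, h ((y : V ≃ₗ[K] V) u) = (y : V ≃ₗ[K] V) u := fun y => by
      have hMu : ∀ m : V ≃ₗ[K] V, m ∈ Mf N u → h (m u) = m u := fun m hm => by
        obtain ⟨a, b, hab⟩ := hP m hm
        rw [hab, map_add, map_smul, map_smul, hgu, hhe]
      by_cases hy : Z y = 1
      · exact hMu _ ((hker y).1 hy)
      let z : T := ⟨Z y, ⟨y, rfl⟩, hy⟩
      have hm : ((yz z)⁻¹ * y : N).1 ∈ Mf N u := (hker _).1 (by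
        rw [map_mul, map_inv, hyz z, inv_mul_cancel])
      set m : V ≃ₗ[K] V := ((yz z)⁻¹ * y : N).1 with hmdef
      have hy' : (y : V ≃ₗ[K] V) u = (yz z : V ≃ₗ[K] V) (m u) := by
        rw [hmdef, Subgroup.coe_mul, Subgroup.coe_inv, LinearEquiv.mul_apply, apply_inv]
      set w₀ : V ≃ₗ[K] V := (yz z : V ≃ₗ[K] V)⁻¹ * (h * yz z * h⁻¹) with hw₀
      have hw₀u : w₀ u = u := by
        rw [hw₀, LinearEquiv.mul_apply, ← hmove]
        show (yz z : V ≃ₗ[K] V)⁻¹ (h (f z)) = u
        rw [hrep']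
        exact inv_apply_self _ _
      have hw₀W : w₀ ∈ Wf N u :=
        mem_Wf_of_eigen hu (N.mul_mem (N.inv_mem (yz z).2) (hconj g (yz z))) (a := 1) (by rw [hw₀u, one_smul])
      calc h ((y : V ≃ₗ[K] V) u) = (yz z : V ≃ₗ[K] V) (w₀ (h (m u))) := by
            rw [hy', hw₀]
            simp only [LinearEquiv.mul_apply, inv_apply_self, apply_inv]
        _ = (yz z : V ≃ₗ[K] V) (m (w₀ u)) := by
            rw [hMu m hm, ← LinearEquiv.mul_apply w₀ m, (mem_Mf.1 hm).2 w₀ hw₀W, LinearEquiv.mul_apply]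
        _ = (y : V ≃ₗ[K] V) u := by rw [hw₀u, hy']
    intro x hx
    set z : V ≃ₗ[K] V := x⁻¹ * (h * x * h⁻¹) with hz
    have hzN : z ∈ N := N.mul_mem (N.inv_mem hx) (hnorm h hh x hx)
    have hzy : ∀ y : N, z ((y : V ≃ₗ[K] V) u) = (y : V ≃ₗ[K] V) u := fun y => by
      have h1 : h⁻¹ ((y : V ≃ₗ[K] V) u) = (y : V ≃ₗ[K] V) u := h.injective (by rw [apply_inv, hall])
      have h2 := hall (⟨x, hx⟩ * y)
      rw [Subgroup.coe_mul, LinearEquiv.mul_apply] at h2
      rw [hz]
      simp only [LinearEquiv.mul_apply]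
      rw [h1, h2, inv_apply_self]
    have hzu : z u = u := by simpa using hzy 1
    obtain ⟨a, ha⟩ := hN.centre z hzN fun y hy => by
      obtain ⟨ζ', -, hζ'⟩ := hN.exists_twist hzN hy
      have h1 := hζ' u
      rw [hzy ⟨y, hy⟩, hzu] at h1
      have h2 : ζ' = 1 := smul_left_injective K (fun e => hu (y.map_eq_zero_iff.1 e))
        (h1.symm.trans (one_smul K (y u)).symm)
      subst h2
      exact twist_one_iff.1 hζ'
    have ha1 : a = 1 := smul_left_injective K hu ((ha u).symm.trans (hzu.trans (one_smul K u).symm))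
    have hz1 : z = 1 := LinearEquiv.ext fun v => by rw [ha, ha1, one_smul]; rfl
    exact mul_inv_eq_iff_eq_mul.1 (inv_mul_eq_one.1 hz1).symm

end CfsgLib.BaseThree
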