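import Cfsg.Agent.Lib.FgsC.BaseThree.Colour
import Cfsg.Agent.Lib.FgsC.CoprimeBase.Small

/-!
# A vector whose orbit under the centraliser of its line stabiliser spans at most a plane

For a group `N` of class two over the scalars: `Wf N u` fixes the line of `u`, `Mf N u` centralises it.
-/

set_option autoImplicit false

universe u v

namespace CfsgLib.BaseThree

open CfsgLib.CoprimeBase

variable {K : Type u} [Field K] {V : Type v} [AddCommGroup V] [Module K V]

/-- The stabiliser in `N` of the line of `u`. -/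
def Wf (N : Subgroup (V ≃ₗ[K] V)) (u : V) : Subgroup (V ≃ₗ[K] V) where
  carrier := {x | x ∈ N ∧ ∃ a : Kˣ, x u = (a : K) • u}
  one_mem' := ⟨N.one_mem, 1, by rw [Units.val_one, one_smul]; rfl⟩
  mul_mem' := fun {x y} ⟨hx, a, ha⟩ ⟨hy, b, hb⟩ => ⟨N.mul_mem hx hy, b * a, by
    rw [LinearEquiv.mul_apply, hb, map_smul, ha, smul_smul, Units.val_mul]⟩
  inv_mem' := fun {x} ⟨hx, a, ha⟩ => ⟨N.inv_mem hx, a⁻¹, x.injective (by
    rw [apply_inv, map_smul, ha, smul_smul, ← Units.val_mul, inv_mul_cancel, Units.val_one, one_smul])⟩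

/-- Its centraliser in `N`. -/
def Mf (N : Subgroup (V ≃ₗ[K] V)) (u : V) : Subgroup (V ≃ₗ[K] V) :=
  N ⊓ Subgroup.centralizer (Wf N u : Set (V ≃ₗ[K] V))

theorem mem_Mf {N : Subgroup (V ≃ₗ[K] V)} {u : V} {x : V ≃ₗ[K] V} :
    x ∈ Mf N u ↔ x ∈ N ∧ ∀ w ∈ Wf N u, w * x = x * w := by
  rw [Mf, Subgroup.mem_inf, Subgroup.mem_centralizer_iff]
  rfl

theorem mem_Wf_of_eigen {N : Subgroup (V ≃ₗ[K] V)} {u : V} (hu : u ≠ 0) {x : V ≃ₗ[K] V} (hx : x ∈ N) {a : K}
    (h : x u = a • u) : x ∈ Wf N u := by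
  refine ⟨hx, Units.mk0 a ?_, h⟩
  rintro rfl
  rw [zero_smul] at h
  exact hu (x.map_eq_zero_iff.1 h)

theorem exists_base_aux [Finite K] : ∀ (n : ℕ) {V : Type v} [AddCommGroup V] [Module K V] [Finite V]
    [Nontrivial V] (N : Subgroup (V ≃ₗ[K] V)), Ext N → Module.finrank K V = n →
    ∃ u e : V, u ≠ 0 ∧ (e = 0 ∨ ∃ m ∈ Mf N u, m u = e) ∧
      ∀ x ∈ Mf N u, ∃ a b : K, x u = a • u + b • e := by
  intro n
  induction n using Nat.strong_induction_on with
  | _ n ih =>
  intro V _ _ _ _ N hN hn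
  classical
  by_cases hsc : ∀ x ∈ N, IsScalar x
  · obtain ⟨u, hu⟩ := exists_ne (0 : V)
    refine ⟨u, 0, hu, Or.inl rfl, fun x hx => ?_⟩
    obtain ⟨c, hc⟩ := hsc x (mem_Mf.1 hx).1
    exact ⟨c, 0, by rw [hc, smul_zero, add_zero]⟩
  push Not at hsc
  obtain ⟨r, w, t, ζ, τ, hs⟩ | ⟨n', t, ha⟩ := split_or_aniso hN hsc
  · haveI := hs.eig_nontrivial
    obtain ⟨u₀, e₀, hu₀, he₀, hP⟩ := ih _ (hn ▸ hs.finrank_lt) (N0 N w t) (hs.ext0 hN) rfl
    have hu : (u₀ : V) ≠ 0 := fun h => hu₀ (Subtype.ext h)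
    have hτ : τ⁻¹ ≠ 0 := inv_ne_zero hs.tau_ne_zero
    have hwW : w ∈ Wf N (u₀ : V) := ⟨hs.hw, 1, by rw [Units.val_one, one_smul]; exact u₀.2⟩
    -- elements sending `u₀` into the fixed space
    have hnf : ∀ x ∈ N, x (u₀ : V) ∈ eig w → ∃ (l : ℕ) (z : V ≃ₗ[K] V), z ∈ N ∧ z * w = w * z ∧ z * t = t * z ∧
        x = sc (Units.mk0 _ hτ) * w ^ l * z ∧ x (u₀ : V) = τ⁻¹ • z u₀ := by
      intro x hx hxe
      obtain ⟨j, hj, l, -, z, hz, hzw, hzt, hform⟩ := hs.exists_form hN hx
      have hzu : z u₀ ∈ eig w := hs.z_mem_eig hzw u₀.2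
      have hxu : x (u₀ : V) = τ⁻¹ • (t ^ j) (z u₀) := by
        rw [hform, pow_apply_eig (μ := (1 : K)) (show w (z u₀) = (1 : K) • z u₀ by rw [mem_eig.1 hzu, one_smul]),
          one_pow, one_smul]
      have hj0 : j = 0 := by
        by_contra hne
        have h1 := congrArg (cp r w ζ 0) hxu
        rw [hs.cp_eigen (j := 0) (by rw [mem_eig.1 hxe, pow_zero, one_smul]) hs.prime.pos hs.prime.pos, if_pos rfl,
          map_smul, hs.cp_tpow hzu hj hs.prime.pos, if_neg (Ne.symm hne), smul_zero] at h1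
        exact hu (x.map_eq_zero_iff.1 h1)
      subst hj0
      refine ⟨l, z, hz, hzw, hzt, LinearEquiv.ext fun v => ?_, hxu⟩
      rw [hform]
      rfl
    refine ⟨u₀, e₀, hu, ?_, fun x hx => ?_⟩
    · rcases he₀ with rfl | ⟨m₀, hm₀, rfl⟩
      · exact Or.inl rfl
      obtain ⟨⟨m, hm, hmw, hmt, hme⟩, hm₀c⟩ := mem_Mf.1 hm₀
      refine Or.inr ⟨m, mem_Mf.2 ⟨hm, fun x hx => ?_⟩, (hme u₀).symm⟩
      obtain ⟨hxN, a, hxa⟩ := hx
      obtain ⟨l, z, hz, hzw, hzt, hxz, hxu⟩ := hnf x hxN (hxa ▸ (eig w).smul_mem _ u₀.2)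
      obtain ⟨y, hy, hyz⟩ := hs.mem_N0_of_comm hN hz hzw hzt
      have hy' : y ∈ Wf (N0 N w t) u₀ := mem_Wf_of_eigen hu₀ hy (a := τ * a) (Subtype.ext (by
        rw [hyz, Submodule.coe_smul, ← smul_smul, ← hxa, hxu, smul_inv_smul₀ hs.tau_ne_zero]))
      have hzm : z * m = m * z := by
        refine hs.eq_of_agree ((show Commute z t from hzt).mul_left hmt) ((show Commute m t from hmt).mul_left hzt)
          fun v hv => ?_
        have h1 := congrArg Subtype.val (LinearEquiv.congr_fun (hm₀c y hy') ⟨v, hv⟩)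
        simp only [LinearEquiv.mul_apply] at h1 ⊢
        rwa [hyz, hme, hme, hyz] at h1
      rw [hxz]
      exact ((show Commute (sc (Units.mk0 _ hτ)) m from (isScalar_sc _).comm m).mul_left
        ((show Commute w m from hmw.symm).pow_left l)).mul_left hzm
    · obtain ⟨hxN, hxc⟩ := mem_Mf.1 hx
      have hxe : x (u₀ : V) ∈ eig w := by
        rw [mem_eig, ← LinearEquiv.mul_apply, hxc w hwW, LinearEquiv.mul_apply, mem_eig.1 u₀.2]
      obtain ⟨l, z, hz, hzw, hzt, hxz, hxu⟩ := hnf x hxN hxe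
      obtain ⟨y, hy, hyz⟩ := hs.mem_N0_of_comm hN hz hzw hzt
      have hyM : y ∈ Mf (N0 N w t) u₀ := by
        refine mem_Mf.2 ⟨hy, ?_⟩
        rintro y₁ ⟨⟨x₁, hx₁, hx₁w, hx₁t, hx₁e⟩, a, ha₁⟩
        have hx₁W : x₁ ∈ Wf N (u₀ : V) := ⟨hx₁, a, by rw [← hx₁e, ha₁]; rfl⟩
        have h1 := hxc x₁ hx₁W
        rw [hxz] at h1
        have hc : Commute x₁ (sc (Units.mk0 _ hτ) * w ^ l) :=
          (show Commute x₁ (sc (Units.mk0 _ hτ)) from ((isScalar_sc _).comm x₁).symm).mul_right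
            ((show Commute x₁ w from hx₁w).pow_right l)
        rw [← mul_assoc, hc.eq, mul_assoc, mul_assoc _ z x₁] at h1
        have h2 : x₁ * z = z * x₁ := mul_left_cancel h1
        refine LinearEquiv.ext fun v => Subtype.ext ?_
        have h3 := LinearEquiv.congr_fun h2 (v : V)
        simp only [LinearEquiv.mul_apply] at h3 ⊢
        rwa [hx₁e, hyz, hyz, hx₁e]
      obtain ⟨a, b, hab⟩ := hP y hyM
      refine ⟨τ⁻¹ * a, τ⁻¹ * b, ?_⟩
      rw [hxu, ← hyz, hab]
      simp only [Submodule.coe_add, Submodule.coe_smul, smul_add, smul_smul]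
  · have h2 : (2 : K) ≠ 0 := fun h => ha.nonsq ⟨1, by linear_combination -h⟩
    obtain ⟨a, b, u, hu, hab, hz⟩ := ha.exists_vector h2
    obtain ⟨-, -, hP⟩ := ha.plane hab hu hz
    have hWsc : ∀ x ∈ Wf N u, IsScalar x := fun x ⟨hx, c, hc⟩ => ha.free hu x hx c hc
    exact ⟨u, n' u, hu, Or.inr ⟨n', mem_Mf.2 ⟨ha.hn, fun x hx => (hWsc x hx).comm n'⟩, rfl⟩,
      fun x hx => hP x (mem_Mf.1 hx).1⟩

/-- A vector `u` and a vector `e` with `M u` inside their span. -/
theorem exists_base [Finite K] [Finite V] [Nontrivial V] {N : Subgroup (V ≃ₗ[K] V)} (hN : Ext N) :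
    ∃ u e : V, u ≠ 0 ∧ (e = 0 ∨ ∃ m ∈ Mf N u, m u = e) ∧
      ∀ x ∈ Mf N u, ∃ a b : K, x u = a • u + b • e :=
  exists_base_aux _ N hN rfl

/-- Vectors of pairwise different weights are independent. -/
theorem eq_zero_of_weights {J : Type*} {ι : Type*} (op : J → V →ₗ[K] V) (χ : J → K) (ψ : ι → J → K)
    (s : Finset ι) : ∀ (f : ι → V) (x : V), (∀ j, op j x = χ j • x) → (∀ i ∈ s, ∀ j, op j (f i) = ψ i j • f i) →
      (∀ i ∈ s, ψ i ≠ χ) → x = ∑ i ∈ s, f i → x = 0 := by
  classical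
  induction s using Finset.induction_on with
  | empty => intro f x _ _ _ h; simpa using h
  | insert i₀ s hi ih =>
    intro f x hx hf hne h
    obtain ⟨j, hj⟩ := Function.ne_iff.1 (hne i₀ (Finset.mem_insert_self _ _))
    have h0 : (χ j - ψ i₀ j) • x = 0 := by
      refine ih (fun i => (ψ i j - ψ i₀ j) • f i) _ (fun k => by rw [map_smul, hx, smul_comm]) (fun i hi' k => ?_)
        (fun i hi' => hne i (Finset.mem_insert_of_mem hi')) ?_
      · rw [map_smul, hf i (Finset.mem_insert_of_mem hi'), smul_comm]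
      · have h1 : χ j • x = ψ i₀ j • f i₀ + ∑ i ∈ s, ψ i j • f i := by
          rw [← hx j, h, map_sum, Finset.sum_insert hi, hf i₀ (Finset.mem_insert_self _ _)]
          exact congrArg _ (Finset.sum_congr rfl fun i hi' => hf i (Finset.mem_insert_of_mem hi') j)
        rw [sub_smul, h1, h, Finset.sum_insert hi, smul_add, Finset.smul_sum, add_sub_add_left_eq_sub,
          ← Finset.sum_sub_distrib]
        exact Finset.sum_congr rfl fun i _ => (sub_smul _ _ _).symm
    rcases smul_eq_zero.1 h0 with h' | h'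
    · exact absurd (sub_eq_zero.1 h').symm hj
    · exact h'

/-- A vanishing sum of vectors of pairwise different weights. -/
theorem eq_zero_of_sum {J : Type*} {ι : Type*} [Fintype ι] (op : J → V →ₗ[K] V) (ψ : ι → J → K)
    (hψ : Function.Injective ψ) (f : ι → V) (hf : ∀ i j, op j (f i) = ψ i j • f i) (h : ∑ i, f i = 0) (i₀ : ι) :
    f i₀ = 0 := by
  classical
  refine eq_zero_of_weights op (ψ i₀) ψ (Finset.univ.erase i₀) (fun i => -f i) _ (hf i₀) (fun i _ j => ?_)
    (fun i hi => hψ.ne (Finset.ne_of_mem_erase hi)) ?_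
  · rw [map_neg, hf, smul_neg]
  · rw [Finset.sum_neg_distrib, ← add_eq_zero_iff_eq_neg, Finset.add_sum_erase _ _ (Finset.mem_univ i₀), h]

/-- Pairwise independent points of the plane. -/
theorem exists_points [Finite K] {n : ℕ} (hn : n ≤ Nat.card K) :
    ∃ pt : Fin (n + 1) → K × K, (∀ i, pt i ≠ 0) ∧
      ∀ i j, (pt i).1 * (pt j).2 = (pt i).2 * (pt j).1 → i = j := by
  haveI := Fintype.ofFinite K
  obtain ⟨e⟩ : Nonempty (Fin n ↪ K) :=
    Function.Embedding.nonempty_of_card_le (by rwa [Fintype.card_fin, ← Nat.card_eq_fintype_card])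
  refine ⟨Fin.cons (0, 1) fun i => (1, e i), fun i => ?_, fun i j h => ?_⟩
  · induction i using Fin.cases <;> simp [Prod.ext_iff]
  · induction i using Fin.cases <;> induction j using Fin.cases <;> simp_all

section Four

variable {r : ℕ} [Fact r.Prime] {M : Type v} [AddCommGroup M] [Module (ZMod r) M] {d : ℕ}

/-- Four colours on the non-zero vectors that no linear map but the identity keeps. -/
theorem four (b : Module.Basis (Fin d) (ZMod r) M) :
    ∃ c : M → Fin 4, ∀ f : M →+ M, Function.Injective f → (∀ x, x ≠ 0 → c (f x) = c x) → ∀ x, f x = x := by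
  classical
  let IsB : M → Prop := fun x => ∃ j, 1 ≤ j ∧ j < d ∧ x = bv b j
  let IsC : M → Prop := fun x => ∃ k, k + 1 < d ∧ x = bv b k + bv b (k + 1)
  refine ⟨fun x => if x = bv b 0 then 0 else if IsB x then 1 else if IsC x then 2 else 3,
    fun f hf hg => eq_id_of_fixes b f ?_⟩
  have hC : ∀ k, k + 1 < d → IsC (bv b k + bv b (k + 1)) ∧ ¬ IsB (bv b k + bv b (k + 1)) ∧
      bv b k + bv b (k + 1) ≠ bv b 0 ∧ bv b k + bv b (k + 1) ≠ 0 := by
    intro k hk
    have hne : ∀ j, j < d → bv b k + bv b (k + 1) ≠ bv b j := fun j hj h => by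
      rcases eq_or_ne j k with rfl | hjk
      · exact bv_ne_zero b hk (by rwa [add_eq_left] at h)
      · have h1 := congrArg (fun x => b.repr x ⟨k, by omega⟩) h
        simp only [map_add, Finsupp.add_apply, repr_bv b (show k < d by omega) (show k < d by omega),
          repr_bv b hk (show k < d by omega), repr_bv b hj (show k < d by omega)] at h1
        simp [hjk] at h1
    refine ⟨⟨k, hk, rfl⟩, fun ⟨j, _, hj, h⟩ => hne j hj h, hne 0 (by omega), fun h => ?_⟩
    have h1 := congrArg (fun x => b.repr x ⟨k, by omega⟩) h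
    simp [repr_bv b (show k < d by omega) (show k < d by omega), repr_bv b hk (show k < d by omega)] at h1
  intro i
  induction i using Nat.strong_induction_on with
  | _ i ih =>
    intro hi
    rcases i with _ | i
    · have h0 := hg (bv b 0) (bv_ne_zero b hi)
      simp only [if_true] at h0
      split_ifs at h0 with h1 h2 h3 <;> first | exact h1 | simp at h0
    · have hne0 : bv b (i + 1) ≠ bv b 0 := fun h => by simpa using bv_injOn b hi (by omega) h
      have hB : IsB (bv b (i + 1)) := ⟨i + 1, by omega, hi, rfl⟩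
      have h0 := hg (bv b (i + 1)) (bv_ne_zero b hi)
      simp only [if_neg hne0, if_pos hB] at h0
      obtain ⟨j, -, hj, hfj⟩ : IsB (f (bv b (i + 1))) := by
        split_ifs at h0 with h1 h2 h3 <;> first | exact h2 | simp at h0
      obtain ⟨hCi, hCB, hC0, hCz⟩ := hC i hi
      have h1 := hg (bv b i + bv b (i + 1)) hCz
      simp only [if_neg hC0, if_neg hCB, if_pos hCi] at h1
      obtain ⟨k, hk, hfk⟩ : IsC (f (bv b i + bv b (i + 1))) := by
        split_ifs at h1 with g1 g2 g3 <;> first | exact g3 | simp at h1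
      rw [map_add, ih i (by omega) (by omega), hfj] at hfk
      rw [hfj]
      rcases bv_sum b (by omega) hj hk hfk with ⟨rfl, h⟩ | ⟨rfl, h⟩
      · rw [h]
      · exfalso
        have h2 := ih k (by omega) (by omega)
        rw [h] at hfj
        have := bv_injOn b hi (by omega) (hf (hfj.trans h2.symm))
        omega

end Four

end CfsgLib.BaseThree
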