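import Cfsg.Agent.Lib.FgsC.BaseThree.Decomp
import Cfsg.Agent.Lib.FgsC.BaseThree.Core
import Cfsg.Agent.Lib.FgsC.CoprimeBase.Irreducible

/-!
# Soluble groups acting completely reducibly have base three
-/

set_option autoImplicit false

universe u v

namespace CfsgLib.BaseThree

open CfsgLib.BaseTwo CfsgLib.CoprimeBase
open scoped commutatorElement

variable {A : Type u} [Group A] [Finite A] {V : Type u} [AddCommGroup V] [Finite V] [DistribMulAction A V]

/-- An irreducible module. -/
theorem tri_irred [FaithfulSMul A V] [Nontrivial V] (hs : Group.IsSolvable A) (hss : Semisimple A V)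
    (hbelow : Below.{u} (Nat.card V)) (hirr : Irred A V) : Tri A V := by
  classical
  haveI : Finite (AddMonoid.End V) :=
    Finite.of_injective (fun f : AddMonoid.End V => (f : V → V)) DFunLike.coe_injective
  obtain ⟨S⟩ := exists_sect A hs
  obtain ⟨p, hp, hexp⟩ : ∃ p : ℕ, p.Prime ∧ ∀ v : V, p • v = 0 := by
    obtain ⟨p, hp, hpV⟩ := Nat.exists_prime_and_dvd (Finite.one_lt_card (α := V)).ne'
    haveI : Fact p.Prime := ⟨hp⟩
    refine ⟨p, hp, ?_⟩
    rcases hirr (nsmulAddMonoidHom p : V →+ V).ker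
      (fun a v (hv : p • v = 0) => show p • a • v = 0 by rw [← smul_comm a p v, hv, smul_zero]) with h | h
    · exfalso
      obtain ⟨x, hx⟩ := exists_prime_addOrderOf_dvd_card' (G := V) p hpV
      have hxU : x ∈ (nsmulAddMonoidHom p : V →+ V).ker := by
        show p • x = 0
        rw [← hx]
        exact addOrderOf_nsmul_eq_zero x
      rw [h, AddSubgroup.mem_bot] at hxU
      rw [hxU, addOrderOf_zero] at hx
      exact hp.one_lt.ne hx
    · intro x
      exact (h.symm ▸ AddSubgroup.mem_top x : x ∈ (nsmulAddMonoidHom p : V →+ V).ker)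
  haveI : Fact p.Prime := ⟨hp⟩
  rcases field_or_tri hs hss hexp hbelow hirr (ring (V := V) S) (fun x hx y hy => ring_comm S hx hy)
    (fun a x hx => ring_normalized S a hx) with hfld | h
  swap
  · exact h
  have hfield := isField_ring S hfld
  letI : Field (ring (V := V) S) := hfield.toField
  let K := ring (V := V) S
  -- the centraliser acts linearly
  let φ : S.C →* (V ≃ₗ[K] V) :=
    { toFun := fun c =>
        { toFun := fun v => (c : A) • v
          map_add' := smul_add _
          map_smul' := fun s v => DFunLike.congr_fun (commute_ring S c.2 s.2) v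
          invFun := fun v => (c : A)⁻¹ • v
          left_inv := fun v => inv_smul_smul _ _
          right_inv := fun v => smul_inv_smul _ _ }
      map_one' := LinearEquiv.ext fun v => one_smul A v
      map_mul' := fun c d => LinearEquiv.ext fun v => mul_smul (c : A) (d : A) v }
  have hφ : ∀ (c : S.C) (v : V), φ c v = (c : A) • v := fun _ _ => rfl
  have hφinj : Function.Injective φ := fun c d h => Subtype.ext
    (FaithfulSMul.eq_of_smul_eq_smul fun v : V => LinearEquiv.congr_fun h v)
  have hφA : ∀ a : S.C, (a : A) ∈ S.A → IsScalar (φ a) := fun a ha =>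
    ⟨⟨rho (a : A), rho_mem S ha⟩, fun _ => rfl⟩
  haveI hFinEquiv : Finite (V ≃ₗ[K] V) := Finite.of_injective (fun f => (f : V → V)) DFunLike.coe_injective
  -- scalars and the section
  let N : Subgroup (V ≃ₗ[K] V) :=
    { carrier := {g | ∃ (a : Kˣ) (n : S.C), (n : A) ∈ S.N ∧ g = sc a * φ n}
      one_mem' := ⟨1, 1, S.N.one_mem, by
        rw [map_one, mul_one]; exact LinearEquiv.ext fun v => (one_smul K v).symm⟩
      mul_mem' := fun {g h} ⟨a, n, hn, hg⟩ ⟨b, m, hm, hh⟩ => ⟨a * b, n * m, S.N.mul_mem hn hm, by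
        rw [hg, hh, map_mul, mul_assoc, ← mul_assoc (φ n), ← (isScalar_sc b).comm (φ n), mul_assoc, ← mul_assoc]
        congr 1⟩
      inv_mem' := fun {g} ⟨a, n, hn, hg⟩ => ⟨a⁻¹, n⁻¹, S.N.inv_mem hn, by
        rw [hg, mul_inv_rev, map_inv, (isScalar_sc a⁻¹).comm]
        congr 1⟩ }
  have hmemφ : ∀ n : S.C, (n : A) ∈ S.N → φ n ∈ N := fun n hn => ⟨1, n, hn, by
    rw [show (sc 1 : V ≃ₗ[K] V) = 1 from LinearEquiv.ext fun v => one_smul K v, one_mul]⟩
  -- an element commuting with the section lies in `A`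
  have hcen : ∀ c : S.C, (∀ n : S.C, (n : A) ∈ S.N → φ c * φ n = φ n * φ c) → (c : A) ∈ S.A := fun c hc =>
    S.hcent (Subgroup.mem_inf.2 ⟨c.2, Subgroup.mem_centralizer_iff.2 fun m hm => by
      have h1 : c * ⟨m, S.hNC hm⟩ = ⟨m, S.hNC hm⟩ * c := hφinj (by rw [map_mul, map_mul]; exact hc ⟨m, S.hNC hm⟩ hm)
      exact (congrArg Subtype.val h1).symm⟩)
  have hN : Ext N := by
    refine ⟨fun g hg => ?_, ?_, ?_, ?_⟩
    · obtain ⟨a, rfl⟩ := hg.exists_unit
      exact ⟨a, 1, S.N.one_mem, by rw [map_one, mul_one]⟩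
    · rintro _ ⟨a, n, hn, rfl⟩ _ ⟨b, m, hm, rfl⟩
      have hd : ⁅(n : A), (m : A)⁆ ∈ S.A := S.hNN _ hn _ hm
      have h1 : Twist (φ n) (φ m) (⟨rho ⁅(n : A), (m : A)⁆, rho_mem S hd⟩ : K) := fun v => by
        show (n : A) • (m : A) • v = ⁅(n : A), (m : A)⁆ • (m : A) • (n : A) • v
        simp only [smul_smul]
        congr 1
        simp only [commutatorElement_def]
        group
      refine twist_comm_elem (((isScalar_sc a).twist (sc b * φ m)).mul_left
        ((twist_one_iff.2 ((isScalar_sc b).comm (φ n)).symm).mul_right h1))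
    · rintro _ ⟨a, n, hn, rfl⟩ hc
      refine (isScalar_sc a).mul (hφA n (hcen n fun m hm => ?_))
      have h1 := hc (φ m) (hmemφ m hm)
      rw [mul_assoc, ← mul_assoc (φ m), ← (isScalar_sc a).comm (φ m), mul_assoc] at h1
      exact mul_left_cancel h1
    · rintro _ ⟨a, n, hn, rfl⟩ r - h
      have hcm : Commute (sc a : V ≃ₗ[K] V) (φ n) := (isScalar_sc a).comm _
      rw [hcm.mul_pow] at h ⊢
      refine ((isScalar_sc a).pow r).mul ?_
      rw [← map_pow]
      refine hφA _ ?_
      rw [SubmonoidClass.coe_pow]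
      have h1 : IsScalar (φ n ^ (r * r)) := by
        have h2 := ((isScalar_sc (V := V) a).pow (r * r)).inv.mul h
        rwa [inv_mul_cancel_left] at h2
      have hrr : (n : A) ^ (r * r) ∈ S.A := by
        have h2 := hcen (n ^ (r * r)) fun m _ => by rw [map_pow]; exact h1.comm _
        rwa [SubmonoidClass.coe_pow] at h2
      let χ : S.A →* K :=
        { toFun := fun x => ⟨rho (x : A), rho_mem S x.2⟩
          map_one' := Subtype.ext (map_one rho)
          map_mul' := fun x y => Subtype.ext (map_mul rho (x : A) y) }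
      have hχ : Function.Injective χ := fun x y h => Subtype.ext (rho_injective (V := V) (congrArg Subtype.val h))
      have hss := S.semisimpleQ χ hχ
      have hcl : ∀ k : ℕ, k • S.cl ⟨n, hn⟩ = S.cl (⟨n, hn⟩ ^ k) := by
        intro k
        induction k with
        | zero => rw [zero_smul, pow_zero]; rfl
        | succ k ih => rw [succ_nsmul, ih, pow_succ, Sect.cl_mul]
      have hzero : ∀ x : S.N, S.cl x = 0 ↔ (x : A) ∈ S.A := fun x => by
        rw [show (0 : Additive S.Q) = S.cl 1 from rfl, Sect.cl_eq_cl, Subgroup.coe_one, mul_one, inv_mem_iff]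
      have h2 := nsmul_eq_zero_of_semisimple hss r (m := S.cl ⟨n, hn⟩) (by
        rw [hcl, hzero, SubmonoidClass.coe_pow]; exact hrr)
      rw [hcl, hzero, SubmonoidClass.coe_pow] at h2
      exact h2
  haveI : Finite K := Subtype.finite
  have hsol : Group.IsSolvable φ.range := by
    haveI := hs
    exact Group.isSolvable_of_surjective φ.rangeRestrict_surjective
  have hnorm : ∀ g ∈ φ.range, ∀ x ∈ N, g * x * g⁻¹ ∈ N := by
    rintro _ ⟨c, rfl⟩ _ ⟨a, n, hn, rfl⟩
    refine ⟨a, c * n * c⁻¹, S.hN.conj_mem _ hn c, ?_⟩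
    rw [map_mul, map_mul, map_inv, ← mul_assoc, ← (isScalar_sc a).comm (φ c), mul_assoc, mul_assoc, mul_assoc]
  obtain ⟨v, hv0, hσ, hlinp⟩ := exists_triple hN φ.range hsol hnorm
  refine ⟨v, fun a ha x => ?_⟩
  let σ : K →+* K :=
    ((cjHom (V := V) a).comp K.subtype).codRestrict K fun s => ring_normalized S a s.2
  have hlin : ∀ (s : K) (y : V), a • (s • y) = σ s • (a • y) := fun s y =>
    smul_apply_end a (s : AddMonoid.End V) y
  have hid := hσ (DistribMulAction.toAddMonoidHom V a) σ (MulAction.injective a) hlin (fun x hx => by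
    obtain ⟨b, n, hn, rfl⟩ := hx
    have hn' : a * (n : A) * a⁻¹ ∈ S.N := S.hN.conj_mem _ hn a
    refine ⟨sc (Units.map σ.toMonoidHom b) * φ ⟨_, S.hNC hn'⟩, ⟨_, _, hn', rfl⟩, fun y => ?_⟩
    show a • ((b : K) • ((n : A) • y)) = σ b • ((a * (n : A) * a⁻¹) • (a • y))
    rw [hlin, smul_smul (a * (n : A) * a⁻¹), inv_mul_cancel_right, mul_smul]) ha
  have haC : a ∈ S.C := Subgroup.mem_centralizer_iff.2 fun a₀ ha₀ => by
    have h1 := congrArg Subtype.val (hid ⟨rho a₀, rho_mem S ha₀⟩)
    change cjHom a (rho a₀) = rho a₀ at h1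
    rw [cjHom_rho] at h1
    exact (mul_inv_eq_iff_eq_mul.1 (rho_injective (V := V) h1)).symm
  have haA : a ∈ S.A := hcen ⟨a, haC⟩ fun n hn => hlinp _ ⟨⟨a, haC⟩, rfl⟩ ha _ (hmemφ n hn)
  obtain rfl : a = 1 := by
    by_contra ha1
    exact hv0 (fix_A S hfld haA ha1 (ha 0))
  exact one_smul A x

omit [Finite A] [Finite V] in
/-- The statement for the image of the action. -/
theorem tri_of_range {A : Type u} [Group A] {V : Type v} [AddCommGroup V] [DistribMulAction A V]
    (G : Subgroup (AddMonoid.End V)ˣ) (f : A → G) (hf : ∀ (a : A) (x : V), f a • x = a • x) (h : Tri G V) :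
    Tri A V := by
  obtain ⟨v, hv⟩ := h
  exact ⟨v, fun a ha x => (hf a x).symm.trans (hv (f a) (fun i => (hf a _).trans (ha i)) x)⟩

omit [Finite A] [Finite V] in
theorem semisimple_range {A : Type u} [Group A] {V : Type v} [AddCommGroup V] [DistribMulAction A V]
    (hss : Semisimple A V) :
    Semisimple (DistribMulAction.toAddMonoidEnd A V).toHomUnits.range V := fun U hU => by
  obtain ⟨W, hW, h1, h2⟩ := hss U fun a x hx => hU ⟨_, a, rfl⟩ x hx
  refine ⟨W, ?_, h1, h2⟩
  rintro ⟨_, a, rfl⟩ x hx
  exact hW a x hx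

omit [Finite A] [Finite V] in
/-- The induction. -/
theorem below (N : ℕ) : Below.{u} N := by
  classical
  induction N using Nat.strong_induction_on with
  | _ N ih =>
  intro A _ _ hs V _ _ _ hV hss
  rcases subsingleton_or_nontrivial V with hsub | hnt
  · exact ⟨fun _ => 0, fun a _ x => Subsingleton.elim _ _⟩
  let φ : A →* (AddMonoid.End V)ˣ := (DistribMulAction.toAddMonoidEnd A V).toHomUnits
  haveI : Finite (AddMonoid.End V) :=
    Finite.of_injective (fun g : AddMonoid.End V => (g : V → V)) DFunLike.coe_injective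
  refine tri_of_range φ.range φ.rangeRestrict (fun _ _ => rfl) ?_
  haveI := hs
  have hGs : Group.IsSolvable φ.range := Group.isSolvable_of_surjective φ.rangeRestrict_surjective
  haveI : FaithfulSMul φ.range V := ⟨fun {x y} h => Subtype.ext (Units.ext (DFunLike.ext _ _ h))⟩
  have hssG : Semisimple φ.range V := semisimple_range hss
  by_cases hirr : Irred φ.range V
  · exact tri_irred hGs hssG (ih _ hV) hirr
  · exact tri_reducible hGs hssG (ih _ hV) hirr

omit [Finite A] [Finite V] in
/-- A soluble group acting completely reducibly has three vectors with trivial common stabiliser. -/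
theorem exists_tri {A : Type u} [Group A] [Finite A] (hs : Group.IsSolvable A) {V : Type v} [AddCommGroup V]
    [Finite V] [DistribMulAction A V] (hss : Semisimple A V) : Tri A V := by
  let φ : A →* (AddMonoid.End V)ˣ := (DistribMulAction.toAddMonoidEnd A V).toHomUnits
  haveI : Finite (AddMonoid.End V) :=
    Finite.of_injective (fun g : AddMonoid.End V => (g : V → V)) DFunLike.coe_injective
  refine tri_of_range φ.range φ.rangeRestrict (fun _ _ => rfl) ?_
  haveI := hs
  exact below.{v} (Nat.card V + 1) φ.range (Group.isSolvable_of_surjective φ.rangeRestrict_surjective) V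
    (Nat.lt_succ_self _) (semisimple_range hss)

end CfsgLib.BaseThree
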