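import Cfsg.Agent.Lib.FgsC.BaseThree.Colour

/-!
# Five inequivalent regular triples from one, in a module of prime exponent

In dimension at least three the triple may be taken independent; the automorphisms of its span induced
by a soluble group form a soluble subgroup of the insoluble group `L3₃(p)`, of index at least five.
-/

set_option autoImplicit false

universe u v

namespace CfsgLib.BaseThree

open CfsgLib.BaseTwo

section Defs

variable (A : Type u) [Group A] (V : Type v) [AddCommGroup V] [DistribMulAction A V]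

/-- Three vectors whose common stabiliser acts trivially. -/
def Tri : Prop := ∃ v : Fin 3 → V, ∀ a : A, (∀ i, a • v i = v i) → ∀ x : V, a • x = x

/-- Five pairwise inequivalent regular triples. -/
def FiveTri : Prop := ∃ P : Fin 5 → Fin 3 → V, ∀ (k k' : Fin 5) (a : A),
  (∀ i, a • P k i = P k' i) → k = k' ∧ ∀ x : V, a • x = x

end Defs

/-- The statement for soluble groups on modules of order less than `N`. -/
def Below (N : ℕ) : Prop :=
  ∀ (A : Type u) [Group A] [Finite A], Group.IsSolvable A →
    ∀ (V : Type u) [AddCommGroup V] [Finite V] [DistribMulAction A V],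
      Nat.card V < N → Semisimple A V → Tri A V

/-- An elementary transvection of rank three. -/
def tv (K : Type u) [CommRing K] (i j : Fin 3) (h : i ≠ j) : (Fin 3 → K) ≃ₗ[K] (Fin 3 → K) where
  toFun x := fun k => if k = i then x k + x j else x k
  map_add' x y := by funext k; simp only [Pi.add_apply]; split_ifs <;> ring
  map_smul' c x := by funext k; simp only [Pi.smul_apply, smul_eq_mul, RingHom.id_apply]; split_ifs <;> ring
  invFun x := fun k => if k = i then x k - x j else x k
  left_inv x := by funext k; simp only [if_neg h.symm]; split_ifs <;> ring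
  right_inv x := by funext k; simp only [if_neg h.symm]; split_ifs <;> ring

open scoped commutatorElement in
theorem comm_tv (K : Type u) [CommRing K] {i j k : Fin 3} (hij : i ≠ j) (hjk : j ≠ k) (hik : i ≠ k) :
    ⁅tv K i j hij, tv K j k hjk⁆ = tv K i k hik := by
  refine LinearEquiv.ext fun x => funext fun l => ?_
  show (tv K i j hij) ((tv K j k hjk) ((tv K i j hij).symm ((tv K j k hjk).symm x))) l = _
  simp only [tv, LinearEquiv.coe_mk, LinearMap.coe_mk, AddHom.coe_mk, LinearEquiv.coe_symm_mk, if_true,
    if_neg hij.symm, if_neg hjk.symm, if_neg hik.symm, if_neg hij, if_neg hjk, if_neg hik]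
  split_ifs <;> subst_vars <;> first | exact absurd rfl hij | ring

/-- `L3₃` is not soluble. -/
theorem not_isSolvable_gl_three (K : Type u) [CommRing K] [Nontrivial K] :
    ¬ Group.IsSolvable ((Fin 3 → K) ≃ₗ[K] (Fin 3 → K)) := by
  have h01 : (0 : Fin 3) ≠ 1 := by decide
  refine not_isSolvable_of_mem_derivedSeries (g := tv K 0 1 h01) (fun h => ?_) fun n => ?_
  · have h1 := congrFun (LinearEquiv.congr_fun h (Pi.single 1 1)) 0
    have h2 : (1 : K) = 0 := by simpa [tv] using h1
    exact one_ne_zero h2
  · have key : ∀ (i j : Fin 3) (h : i ≠ j), tv K i j h ∈ derivedSeries _ n := by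
      induction n with
      | zero => exact fun _ _ _ => Subgroup.mem_top _
      | succ n ih =>
        intro i j h
        obtain ⟨k, hki, hkj⟩ : ∃ k, k ≠ i ∧ k ≠ j :=
          (by decide : ∀ i j : Fin 3, ∃ k, k ≠ i ∧ k ≠ j) i j
        rw [derivedSeries_succ, ← comm_tv K (Ne.symm hki) hkj h]
        exact Subgroup.commutator_mem_commutator (ih _ _ _) (ih _ _ _)
    exact key 0 1 h01

/-- A subspace of intermediate dimension. -/
theorem exists_super {K : Type u} [Field K] {V : Type v} [AddCommGroup V] [Module K V] [Module.Finite K V]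
    (S : Submodule K V) {k : ℕ} (h1 : Module.finrank K S ≤ k) (h2 : k ≤ Module.finrank K V) :
    ∃ T : Submodule K V, S ≤ T ∧ Module.finrank K T = k := by
  induction k, h1 using Nat.le_induction with
  | base => exact ⟨S, le_rfl, rfl⟩
  | succ k _ ih =>
    obtain ⟨T, hST, hT⟩ := ih (by omega)
    obtain ⟨v, hv⟩ : ∃ v, v ∉ T := by
      by_contra hall
      push Not at hall
      rw [(Submodule.eq_top_iff').2 hall, finrank_top] at hT
      omega
    have hv0 : v ≠ 0 := fun h => hv (h ▸ T.zero_mem)
    refine ⟨T ⊔ Submodule.span K {v}, hST.trans le_sup_left, ?_⟩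
    have hi : T ⊓ Submodule.span K {v} = ⊥ := by
      rw [Submodule.eq_bot_iff]
      intro x hx
      obtain ⟨hxT, hxv⟩ := Submodule.mem_inf.1 hx
      obtain ⟨c, rfl⟩ := Submodule.mem_span_singleton.1 hxv
      by_contra hne
      have hc : c ≠ 0 := fun h => hne (by rw [h, zero_smul])
      exact hv ((T.smul_mem_iff hc).1 hxT)
    have h := Submodule.finrank_sup_add_finrank_inf_eq T (Submodule.span K {v})
    rw [hi, finrank_bot, finrank_span_singleton hv0] at h
    omega

/-- Five triples from patterns. -/
theorem five_of_pattern {A : Type u} [Group A] {V : Type v} [AddCommGroup V] [DistribMulAction A V]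
    (val : Fin 3 → V) (h0 : val 0 = 0) (pat : Fin 5 → Fin 3 → Fin 3)
    (hinj : ∀ k i, val (pat k i) = 0 → pat k i = 0)
    (hinj' : ∀ k i j, val (pat k i) = val (pat k j) → pat k i = pat k j)
    (hdist : ∀ k k', (∀ i j, pat k i = pat k j ↔ pat k' i = pat k' j) → (∀ i, pat k i = 0 ↔ pat k' i = 0) → k = k')
    (hreg : ∀ k (a : A), (∀ i, a • val (pat k i) = val (pat k i)) → ∀ x : V, a • x = x) : FiveTri A V := by
  refine ⟨fun k i => val (pat k i), fun k k' a ha => ?_⟩
  replace ha : ∀ i, a • val (pat k i) = val (pat k' i) := ha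
  obtain rfl : k = k' := by
    refine hdist k k' (fun i j => ⟨fun e => ?_, fun e => ?_⟩) fun i => ⟨fun e => ?_, fun e => ?_⟩
    · exact hinj' _ _ _ (by rw [← ha i, ← ha j, e])
    · exact hinj' _ _ _ (MulAction.injective a (show a • val (pat k i) = a • val (pat k j) by rw [ha i, ha j, e]))
    · exact hinj _ _ (by rw [← ha i, e, h0, smul_zero])
    · exact hinj _ _ ((smul_eq_zero_iff_eq a).1 (by rw [ha i, e, h0]))
  exact ⟨rfl, hreg k a ha⟩

variable {A : Type u} [Group A] {V : Type v} [AddCommGroup V] [Finite V] [DistribMulAction A V] [Nontrivial V]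

/-- One regular triple gives five. -/
theorem five_of_tri (hs : Group.IsSolvable A) {p : ℕ} [Fact p.Prime] (hexp : ∀ x : V, p • x = 0)
    (h : Tri A V) : FiveTri A V := by
  classical
  haveI hmod : Module (ZMod p) V := AddCommGroup.zmodModule hexp
  haveI : Module.Finite (ZMod p) V := Module.Finite.of_finite
  let L : A → (V →ₗ[ZMod p] V) := fun a => (DistribMulAction.toAddMonoidHom V a).toZModLinearMap p
  have hL : ∀ (a : A) (x : V), (L a : V → V) x = a • x := fun _ _ => rfl
  have hdpos : 0 < Module.finrank (ZMod p) V := Module.finrank_pos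
  rcases Nat.lt_or_ge (Module.finrank (ZMod p) V) 3 with hd | hd
  · rcases Nat.lt_or_ge (Module.finrank (ZMod p) V) 2 with hd1 | hd2
    · let b := Module.finBasisOfFinrankEq (ZMod p) V (show Module.finrank (ZMod p) V = 1 by omega)
      refine five_of_pattern ![0, b 0, b 0] rfl ![![1, 0, 0], ![0, 1, 0], ![0, 0, 1], ![1, 1, 0], ![0, 1, 1]]
        (fun k i => ?_) (fun k i j => ?_) (by decide) fun k a ha x => ?_
      · fin_cases k <;> fin_cases i <;> simp [b.ne_zero]
      · fin_cases k <;> fin_cases i <;> fin_cases j <;> simp [b.ne_zero, (b.ne_zero _).symm]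
      · have hb : a • b 0 = b 0 := by
          fin_cases k <;> first | simpa using ha 0 | simpa using ha 1 | simpa using ha 2
        have h1 : L a = LinearMap.id := b.ext fun i => by fin_cases i; exact hb
        exact (hL a x).symm.trans (LinearMap.congr_fun h1 x)
    · let b := Module.finBasisOfFinrankEq (ZMod p) V (show Module.finrank (ZMod p) V = 2 by omega)
      have hne : b 0 ≠ b 1 := b.injective.ne (by decide)
      refine five_of_pattern ![0, b 0, b 1] rfl ![![1, 2, 0], ![1, 0, 2], ![0, 1, 2], ![1, 2, 1], ![2, 1, 1]]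
        (fun k i => ?_) (fun k i j => ?_) (by decide) fun k a ha x => ?_
      · fin_cases k <;> fin_cases i <;> simp [b.ne_zero]
      · fin_cases k <;> fin_cases i <;> fin_cases j <;> simp [b.ne_zero, (b.ne_zero _).symm, hne, hne.symm]
      · have hb : a • b 0 = b 0 ∧ a • b 1 = b 1 := by
          constructor <;>
            fin_cases k <;> first | simpa using ha 0 | simpa using ha 1 | simpa using ha 2
        have h1 : L a = LinearMap.id := b.ext fun i => by
          fin_cases i
          · exact hb.1
          · exact hb.2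
        exact (hL a x).symm.trans (LinearMap.congr_fun h1 x)
  obtain ⟨v, hv⟩ := h
  have hS : Module.finrank (ZMod p) (Submodule.span (ZMod p) (Set.range v)) ≤ 3 :=
    (finrank_range_le_card v).trans (by simp)
  obtain ⟨T, hST, hT⟩ := exists_super _ hS hd
  let e : (Fin 3 → ZMod p) ≃ₗ[ZMod p] T := (Module.finBasisOfFinrankEq (ZMod p) T hT).equivFun.symm
  let ι : (Fin 3 → ZMod p) →ₗ[ZMod p] V := T.subtype ∘ₗ e.toLinearMap
  have hι : Function.Injective ι := Subtype.val_injective.comp e.injective
  let L3 := (Fin 3 → ZMod p) ≃ₗ[ZMod p] (Fin 3 → ZMod p)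
  haveI : Finite L3 := Finite.of_injective (fun f : L3 => (f : (Fin 3 → ZMod p) → _)) DFunLike.coe_injective
  let R : Subgroup (A × L3) :=
    { carrier := {q | ∀ x, q.1 • ι x = ι (q.2 x)}
      one_mem' := fun x => one_smul A _
      mul_mem' := fun {q r} hq hr x => by
        show (q.1 * r.1) • ι x = ι (q.2 (r.2 x))
        rw [mul_smul, hr, hq]
      inv_mem' := fun {q} hq x => by
        show q.1⁻¹ • ι x = ι (q.2.symm x)
        rw [inv_smul_eq_iff, hq, LinearEquiv.apply_symm_apply] }
  haveI := hs
  haveI : Group.IsSolvable R := Group.isSolvable_of_isSolvable_injective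
    (f := (MonoidHom.fst A L3).comp R.subtype) fun q r hqr => Subtype.ext (Prod.ext hqr (LinearEquiv.ext fun x =>
      hι (((q.2 x).symm.trans (congrArg (· • ι x) (show (q : A × L3).1 = (r : A × L3).1 from hqr))).trans (r.2 x))))
  obtain ⟨f, hf⟩ := five_cosets (not_isSolvable_gl_three (ZMod p)) (R.map (MonoidHom.snd A L3))
    (Group.isSolvable_of_surjective ((MonoidHom.snd A L3).subgroupMap_surjective R))
  refine ⟨fun k i => ι ((f k).symm (Pi.single i 1)), fun k k' a ha => ?_⟩
  have hlin : L a ∘ₗ ι ∘ₗ (f k).symm.toLinearMap = ι ∘ₗ (f k').symm.toLinearMap :=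
    (Pi.basisFun (ZMod p) (Fin 3)).ext fun i => by
      rw [Pi.basisFun_apply]
      exact ha i
  obtain rfl : k = k' := by
    refine (hf k' k ⟨(a, (f k')⁻¹ * f k), fun x => ?_, rfl⟩).symm
    show a • ι x = ι ((f k').symm (f k x))
    have h1 := LinearMap.congr_fun hlin (f k x)
    simp only [LinearMap.comp_apply, LinearEquiv.coe_coe, LinearEquiv.symm_apply_apply] at h1
    exact h1
  refine ⟨rfl, hv a fun i => ?_⟩
  have h1 := LinearMap.congr_fun hlin (f k (e.symm ⟨v i, hST (Submodule.subset_span ⟨i, rfl⟩)⟩))
  simp only [LinearMap.comp_apply, LinearEquiv.coe_coe, LinearEquiv.symm_apply_apply, ι,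
    LinearEquiv.apply_symm_apply, Submodule.subtype_apply] at h1
  exact h1

end CfsgLib.BaseThree
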